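import Cfsg.Agent.Lib.Chev.StWords
import Cfsg.Agent.Lib.Chev.StInst
import Cfsg.Agent.Lib.Chev.StTorus

/-!
Over a finite field the relations (R3) follow from (R1) and (R2).
-/

set_option autoImplicit false
set_option linter.unusedSectionVars false

namespace CfsgLib.KnownA.CExt

open Cfsg.Lie CfsgLib.Chev

variable {D : ChevalleyDatum} {F : Type*} [Field F] {g : Good D} {Γ : Type*} [Group Γ]
  (S : StData g F Γ)

theorem n_conj_pos (hlink : g.Linked) (i : Fin D.rank) (t : Fˣ) (u : F) :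
    S.nY (D.simple i) t * S.y (D.simple i) u * (S.nY (D.simple i) t)⁻¹ =
      S.y (D.neg (D.simple i)) (-(((t⁻¹ : Fˣ) : F) ^ 2 * u)) := by
  have hp := g.simple_lt i.2
  have hn := g.neg_lt hp
  obtain ⟨c, hc⟩ := S.conj_simple hlink i t
  have hθ := congrArg S.θ (hc 1)
  rw [map_mul, map_mul, map_inv, S.θ_nY hp, S.θy _ hp, S.θy _ hn, g.nG_eq_hG_mul hp,
    show g.hG (D.simple i) t * g.nG (D.simple i) 1 * g.xG (D.simple i) (1 : F) *
      (g.hG (D.simple i) t * g.nG (D.simple i) 1)⁻¹ = g.hG (D.simple i) t *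
        (g.nG (D.simple i) 1 * g.xG (D.simple i) (1 : F) * (g.nG (D.simple i) 1)⁻¹) *
          (g.hG (D.simple i) t)⁻¹ by group,
    g.nG_conj_xG i.2 hp, g.refl_simple,
    show g.eta i (D.simple i) = -1 from (StructChecks.eta_facts g.lie g.struc i.2 hp).2.2.2,
    g.hG_conj_xG hn, g.pair_simple i.2 hn, g.cartan_neg' i.2 hp, g.cartan_simple i.2] at hθ
  have h1 := g.x_inj hn hθ
  rw [hc u]
  congr 1
  simp only [mul_one] at h1
  rw [← h1]
  simp only [Units.val_zpow_eq_zpow_val, Int.cast_neg, Int.cast_one, Units.val_inv_eq_inv_val,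
    _root_.zpow_neg]
  norm_cast
  push_cast
  ring

theorem n_conj_neg (hlink : g.Linked) (i : Fin D.rank) (t : Fˣ) (u : F) :
    S.nY (D.simple i) t * S.y (D.neg (D.simple i)) u * (S.nY (D.simple i) t)⁻¹ =
      S.y (D.simple i) (-((t : F) ^ 2 * u)) := by
  have h := n_conj_pos S hlink i (-t) (-((t : F) ^ 2 * u))
  rw [← S.nY_inv (g.simple_lt i.2), inv_inv] at h
  rw [show -((((-t)⁻¹ : Fˣ) : F) ^ 2 * -((t : F) ^ 2 * u)) = u by
    simp only [Units.val_inv_eq_inv_val, Units.val_neg, inv_neg, neg_sq, mul_neg, _root_.neg_neg]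
    field_simp [t.ne_zero]] at h
  rw [← h]
  group

/-- The element `n_i(t)` written from the other side. -/
theorem nY_alt (hlink : g.Linked) (i : Fin D.rank) (t : Fˣ) :
    S.nY (D.simple i) t = S.y (D.neg (D.simple i)) (-((t⁻¹ : Fˣ) : F)) * S.y (D.simple i) (t : F) *
      S.y (D.neg (D.simple i)) (-((t⁻¹ : Fˣ) : F)) := by
  set n := S.nY (D.simple i) t
  have e : n = (n * S.y (D.simple i) (t : F) * n⁻¹) *
      (n * S.y (D.neg (D.simple i)) (-((t⁻¹ : Fˣ) : F)) * n⁻¹) *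
        (n * S.y (D.simple i) (t : F) * n⁻¹) := by
    conv_lhs => rw [show n = n * n * n⁻¹ by group]
    rw [show n * n * n⁻¹ = n * (S.y (D.simple i) (t : F) *
      S.y (D.neg (D.simple i)) (-((t⁻¹ : Fˣ) : F)) * S.y (D.simple i) (t : F)) * n⁻¹ from rfl]
    group
  rw [n_conj_pos S hlink, n_conj_neg S hlink] at e
  rw [e]
  have ht := t.ne_zero
  simp only [Units.val_inv_eq_inv_val]
  congr 3 <;> field_simp

theorem nY_conj_nY (hlink : g.Linked) (i : Fin D.rank) (a b : Fˣ) :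
    S.nY (D.simple i) a * S.nY (D.simple i) b * (S.nY (D.simple i) a)⁻¹ =
      S.nY (D.simple i) (a ^ 2 * b⁻¹) := by
  set n := S.nY (D.simple i) a
  rw [show n * S.nY (D.simple i) b * n⁻¹ = (n * S.y (D.simple i) (b : F) * n⁻¹) *
      (n * S.y (D.neg (D.simple i)) (-((b⁻¹ : Fˣ) : F)) * n⁻¹) *
        (n * S.y (D.simple i) (b : F) * n⁻¹) by
    rw [show S.nY (D.simple i) b = S.y (D.simple i) (b : F) *
      S.y (D.neg (D.simple i)) (-((b⁻¹ : Fˣ) : F)) * S.y (D.simple i) (b : F) from rfl]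
    group, n_conj_pos S hlink, n_conj_neg S hlink, nY_alt S hlink i (a ^ 2 * b⁻¹)]
  simp only [Units.val_inv_eq_inv_val, Units.val_mul, Units.val_pow_eq_pow_val]
  congr 3 <;> field_simp [a.ne_zero, b.ne_zero]

/-- Steinberg's identity `h(u) h(v) = h(u v)` for `u + v = 1`. -/
theorem hY_mul_of_add_eq_one (hlink : g.Linked) (i : Fin D.rank) (u v : Fˣ)
    (huv : (u : F) + (v : F) = 1) :
    S.hY (D.simple i) u * S.hY (D.simple i) v = S.hY (D.simple i) (u * v) := by
  set p := D.simple i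
  have hp : p < D.nroots := g.simple_lt i.2
  set A : F → Γ := fun x => S.y p x with hA
  set B : F → Γ := fun x => S.y (D.neg p) x with hB
  have hAA : ∀ x y, A x * A y = A (x + y) := fun x y => S.add p hp x y
  have hBB : ∀ x y, B x * B y = B (x + y) := fun x y => S.add _ (g.neg_lt hp) x y
  set W : Fˣ → Γ := fun t => S.nY p t with hW
  have hW1 : ∀ t : Fˣ, W t = A t * B (-((t⁻¹ : Fˣ) : F)) * A t := fun t => rfl
  have hW2 : ∀ t : Fˣ, W t = B (-((t⁻¹ : Fˣ) : F)) * A t * B (-((t⁻¹ : Fˣ) : F)) :=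
    fun t => nY_alt S hlink i t
  have hBW : ∀ (t : Fˣ) z, B z * W t = W t * A (-((t : F) ^ 2 * z)) := fun t z => by
    have h := n_conj_neg S hlink i (-t) z
    rw [← S.nY_inv hp, inv_inv, Units.val_neg, neg_sq] at h
    show S.y (D.neg p) z * S.nY p t = S.nY p t * S.y p _
    rw [← h]
    group
    rfl
  have hAW : ∀ (t : Fˣ) z, A z * W t = W t * B (-(((t⁻¹ : Fˣ) : F) ^ 2 * z)) := fun t z => by
    have h := n_conj_pos S hlink i (-t) z
    rw [← S.nY_inv hp, inv_inv, inv_neg, Units.val_neg, neg_sq] at h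
    show S.y p z * S.nY p t = S.nY p t * S.y (D.neg p) _
    rw [← h]
    group
    rfl
  have hu := u.ne_zero
  have hv := v.ne_zero
  set mv : Fˣ := -v
  set r : Fˣ := v * u⁻¹
  have key : W u * W (-1) * W v = W mv * W r * W v := by
    have e1 : A u * A (-1) = A (-(v : F)) := by rw [hAA]; congr 1; linear_combination huv
    have e2 : A (-1) * A v = A (-(u : F)) := by rw [hAA]; congr 1; linear_combination huv
    have e3 : A (-(v : F)) = B (-((v⁻¹ : Fˣ) : F)) * W mv * B (-((v⁻¹ : Fˣ) : F)) := by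
      rw [hW2 mv]
      simp only [mv, inv_neg, Units.val_neg, _root_.neg_neg]
      rw [show B (-((v⁻¹ : Fˣ) : F)) * (B ((v⁻¹ : Fˣ) : F) * A (-(v : F)) * B ((v⁻¹ : Fˣ) : F)) *
        B (-((v⁻¹ : Fˣ) : F)) = (B (-((v⁻¹ : Fˣ) : F)) * B ((v⁻¹ : Fˣ) : F)) * A (-(v : F)) *
          (B ((v⁻¹ : Fˣ) : F) * B (-((v⁻¹ : Fˣ) : F))) by group, hBB, hBB, neg_add_cancel,
        add_neg_cancel, show B 0 = 1 from S.y_zero (g.neg_lt hp), one_mul, mul_one]
    have e4 : A (r : F) * B (-((r⁻¹ : Fˣ) : F)) = W r * A (-(r : F)) := by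
      rw [hW1 r, mul_assoc _ (A (r : F)), hAA, add_neg_cancel, show A 0 = 1 from S.y_zero hp,
        mul_one]
    calc W u * W (-1) * W v
        = A u * B (-((u⁻¹ : Fˣ) : F)) * (A u * A (-1)) * B 1 * (A (-1) * A v) *
            B (-((v⁻¹ : Fˣ) : F)) * A v := by
          rw [hW1 u, hW1 (-1), hW1 v]
          simp only [inv_neg, inv_one, Units.val_neg, Units.val_one, _root_.neg_neg]
          group
      _ = A u * (B (-((u⁻¹ : Fˣ) : F)) * B (-((v⁻¹ : Fˣ) : F)) * W mv) *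
            (B (-((v⁻¹ : Fˣ) : F)) * B 1) * A (-(u : F)) * B (-((v⁻¹ : Fˣ) : F)) * A v := by
          rw [e1, e2, e3]; group
      _ = A u * (W mv * A (r : F)) * B (-((r⁻¹ : Fˣ) : F)) * A (-(u : F)) *
            B (-((v⁻¹ : Fˣ) : F)) * A v := by
          rw [hBB, hBW, hBB]
          have ea : -(((mv : Fˣ) : F) ^ 2 * (-((u⁻¹ : Fˣ) : F) + -((v⁻¹ : Fˣ) : F))) = (r : F) := by
            simp only [mv, r, Units.val_neg, Units.val_mul, Units.val_inv_eq_inv_val]
            field_simp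
            linear_combination huv
          have eb : -((v⁻¹ : Fˣ) : F) + 1 = -((r⁻¹ : Fˣ) : F) := by
            simp only [r, Units.val_inv_eq_inv_val, Units.val_mul, _root_.mul_inv_rev, inv_inv]
            field_simp
            linear_combination huv
          rw [ea, eb]
      _ = (A u * W mv) * (A (r : F) * B (-((r⁻¹ : Fˣ) : F))) * A (-(u : F)) *
            B (-((v⁻¹ : Fˣ) : F)) * A v := by group
      _ = W mv * (B (-(((mv⁻¹ : Fˣ) : F) ^ 2 * u)) * W r) * (A (-(r : F)) * A (-(u : F))) *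
            B (-((v⁻¹ : Fˣ) : F)) * A v := by
          rw [hAW, e4]; group
      _ = W mv * W r * (A (-((r : F) ^ 2 * -(((mv⁻¹ : Fˣ) : F) ^ 2 * u))) *
            A (-(r : F) + -(u : F))) * B (-((v⁻¹ : Fˣ) : F)) * A v := by
          rw [hBW, hAA]; group
      _ = W mv * W r * (A v * B (-((v⁻¹ : Fˣ) : F)) * A v) := by
          rw [hAA]
          have ec : -((r : F) ^ 2 * -(((mv⁻¹ : Fˣ) : F) ^ 2 * u)) + (-(r : F) + -(u : F)) = v := by
            simp only [mv, r, inv_neg, Units.val_neg, Units.val_mul, Units.val_inv_eq_inv_val]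
            field_simp
            linear_combination (-(u : F) - 1) * huv
          rw [ec]; group
      _ = W mv * W r * W v := by rw [← hW1 v]
  have hinv : W v = (W mv)⁻¹ := by
    show S.nY p v = (S.nY p mv)⁻¹
    rw [S.nY_inv hp]
    simp [mv]
  rw [hinv, ← hinv] at key
  have h2 : W mv * W r * W v = W (u * v) := by
    rw [hinv]
    show S.nY p mv * S.nY p r * (S.nY p mv)⁻¹ = S.nY p (u * v)
    rw [nY_conj_nY S hlink]
    congr 1
    simp only [mv, r, neg_sq, _root_.mul_inv_rev, inv_inv]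
    rw [sq, mul_assoc, mul_comm v (u * v⁻¹), mul_assoc, inv_mul_cancel, mul_one, mul_comm]
  show W u * W (-1) * (W v * W (-1)) = W (u * v) * W (-1)
  rw [← h2, ← key]
  group

/-- The cocycle of the torus. -/
noncomputable def symb (i : Fin D.rank) (a b : Fˣ) : Γ :=
  S.hY (D.simple i) a * S.hY (D.simple i) b * (S.hY (D.simple i) (a * b))⁻¹

theorem symb_mem_center (hlink : g.Linked) (i : Fin D.rank) (a b : Fˣ) :
    symb S i a b ∈ Subgroup.center Γ := by
  refine S.ker_le_center hlink ?_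
  have hp := g.simple_lt i.2
  rw [MonoidHom.mem_ker, symb, map_mul, map_mul, map_inv, S.θ_hY hp, S.θ_hY hp, S.θ_hY hp,
    ← map_mul, mul_inv_cancel]

theorem hY_one (i : Fin D.rank) : S.hY (D.simple i) 1 = 1 := by
  rw [StData.hY, ← S.nY_inv (g.simple_lt i.2), mul_inv_cancel]

/-- (R3) for the fundamental roots. -/
theorem R3_finite [Finite F] (hlink : g.Linked) : S.R3 := by
  classical
  intro i a b
  have hp := g.simple_lt i.2
  set H : Fˣ → Γ := fun t => S.hY (D.simple i) t with hH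
  have hcen : ∀ (z w : Γ), z ∈ Subgroup.center Γ → w * z = z * w :=
    fun z w hz => Subgroup.mem_center_iff.1 hz w
  have hcc : ∀ a b, H a * H b = symb S i a b * H (a * b) := fun a b => by
    simp only [hH, symb, inv_mul_cancel_right]
  -- everything lies in the centre times a cyclic group
  obtain ⟨ω, hω⟩ := IsCyclic.exists_monoid_generator (α := Fˣ)
  have hcyc : ∀ t, ∃ z ∈ Subgroup.center Γ, ∃ n : ℕ, H t = z * H ω ^ n := by
    intro t
    obtain ⟨n, rfl⟩ := hω t
    induction n with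
    | zero => exact ⟨1, one_mem _, 0, by simp [hH, hY_one S]⟩
    | succ n ih =>
      obtain ⟨z, hz, k, hk⟩ := ih
      refine ⟨(symb S i (ω ^ n) ω)⁻¹ * z, mul_mem (inv_mem (symb_mem_center S hlink i _ _)) hz,
        k + 1, ?_⟩
      show H (ω ^ (n + 1)) = _
      rw [pow_succ ω, pow_succ, ← mul_assoc, mul_assoc _ z, ← hk, mul_assoc, hcc,
        inv_mul_cancel_left]
  have hcomm : ∀ a b, H a * H b = H b * H a := by
    intro a b
    obtain ⟨z, hz, n, hn⟩ := hcyc a
    obtain ⟨w, hw, m, hm⟩ := hcyc b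
    rw [hn, hm, show z * H ω ^ n * (w * H ω ^ m) = z * w * (H ω ^ n * H ω ^ m) by
      rw [mul_assoc, ← mul_assoc (H ω ^ n), hcen w _ hw]; group,
      show w * H ω ^ m * (z * H ω ^ n) = w * z * (H ω ^ m * H ω ^ n) by
      rw [mul_assoc, ← mul_assoc (H ω ^ m), hcen z _ hz]; group,
      hcen w z hw, ← pow_add, ← pow_add, add_comm]
  -- squares
  have hsq : ∀ a b : Fˣ, H (a ^ 2 * b) = H b * H (a ^ 2) := by
    intro a b
    have e : H a * H b * (H a)⁻¹ = H (a ^ 2 * b) * (H (a ^ 2))⁻¹ := by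
      have hn : ∀ t, H a * S.nY (D.simple i) t * (H a)⁻¹ = S.nY (D.simple i) (a ^ 2 * t) := by
        intro t
        show S.nY (D.simple i) a * S.nY (D.simple i) (-1) * S.nY (D.simple i) t *
          (S.nY (D.simple i) a * S.nY (D.simple i) (-1))⁻¹ = _
        rw [show S.nY (D.simple i) a * S.nY (D.simple i) (-1) * S.nY (D.simple i) t *
          (S.nY (D.simple i) a * S.nY (D.simple i) (-1))⁻¹ = S.nY (D.simple i) a *
          (S.nY (D.simple i) (-1) * S.nY (D.simple i) t * (S.nY (D.simple i) (-1))⁻¹) *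
          (S.nY (D.simple i) a)⁻¹ by group, nY_conj_nY S hlink, nY_conj_nY S hlink]
        congr 1
        rw [neg_sq, one_pow, one_mul, inv_inv]
      show H a * (S.nY (D.simple i) b * S.nY (D.simple i) (-1)) * (H a)⁻¹ = _
      rw [show H a * (S.nY (D.simple i) b * S.nY (D.simple i) (-1)) * (H a)⁻¹ =
        (H a * S.nY (D.simple i) b * (H a)⁻¹) * (H a * S.nY (D.simple i) (-1) * (H a)⁻¹) by group,
        hn, hn, mul_neg_one, ← S.nY_inv hp, S.nY_eq hp (a ^ 2 * b), S.nY_eq hp (a ^ 2)]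
      group
      rfl
    rw [hcomm a b, mul_inv_cancel_right] at e
    rw [e, inv_mul_cancel_right]
  have hnorm : ∀ a b s : Fˣ, symb S i a (b * s ^ 2) = symb S i a b := by
    intro a b s
    show H a * H (b * s ^ 2) * (H (a * (b * s ^ 2)))⁻¹ = H a * H b * (H (a * b))⁻¹
    rw [mul_comm b (s ^ 2), hsq, show a * (s ^ 2 * b) = s ^ 2 * (a * b) by
      rw [mul_left_comm], hsq]
    group
  have hsymm : ∀ a b, symb S i a b = symb S i b a := fun a b => by
    show H a * H b * (H (a * b))⁻¹ = H b * H a * (H (b * a))⁻¹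
    rw [hcomm a b, mul_comm a b]
  have h1 : ∀ a, symb S i a 1 = 1 := fun a => by
    show H a * H 1 * (H (a * 1))⁻¹ = 1
    rw [mul_one a, show H 1 = 1 from hY_one S i, mul_one, mul_inv_cancel]
  have hsquare : ∀ a s : Fˣ, symb S i a (s ^ 2) = 1 := fun a s => by
    rw [← one_mul (s ^ 2), hnorm, h1]
  suffices hz : symb S i ω ω = 1 by
    have key : symb S i a b = 1 := by
      have hpar : ∀ t : Fˣ, ∃ s : Fˣ, t = s ^ 2 ∨ t = ω * s ^ 2 := by
        intro t
        obtain ⟨n, rfl⟩ := hω t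
        refine ⟨ω ^ (n / 2), ?_⟩
        rcases Nat.mod_two_eq_zero_or_one n with h | h
        · left; show ω ^ n = _; rw [← pow_mul]; congr 1; omega
        · right; show ω ^ n = _; rw [← pow_mul, ← pow_succ']; congr 1; omega
      obtain ⟨s, rfl | rfl⟩ := hpar b
      · exact hsquare a s
      obtain ⟨s', rfl | rfl⟩ := hpar a
      · rw [hsymm]; exact hsquare _ _
      · rw [hnorm, hsymm, hnorm]; exact hz
    show H a * H b = H (a * b)
    rw [hcc, key, one_mul]
  -- the fundamental symbol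
  by_cases hω2 : ∃ s : Fˣ, ω = s ^ 2
  · obtain ⟨s, hs⟩ := hω2
    conv_lhs => arg 4; rw [hs]
    exact hsquare ω s
  have hns : ∀ t : Fˣ, (¬ ∃ s, t = s ^ 2) → ∃ s, t = ω * s ^ 2 := by
    intro t ht
    obtain ⟨n, rfl⟩ := hω t
    refine ⟨ω ^ (n / 2), ?_⟩
    rcases Nat.mod_two_eq_zero_or_one n with h | h
    · exact absurd ⟨ω ^ (n / 2), by show ω ^ n = _; rw [← pow_mul]; congr 1; omega⟩ ht
    · show ω ^ n = _; rw [← pow_mul, ← pow_succ']; congr 1; omega
  -- two non-squares adding up to one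
  obtain ⟨u, v, hu, hv, huv⟩ : ∃ u v : Fˣ, (¬ ∃ s, u = s ^ 2) ∧ (¬ ∃ s, v = s ^ 2) ∧
      (u : F) + (v : F) = 1 := by
    by_contra hno
    push Not at hno
    set N : Set F := {x | ∃ t : Fˣ, (∀ s, t ≠ s ^ 2) ∧ (t : F) = x}
    set Q : Set F := {x | ∃ s : Fˣ, ((s ^ 2 : Fˣ) : F) = x}
    have hmap : ∀ x ∈ N, (1 - x) ∈ Q := by
      rintro x ⟨t, ht, rfl⟩
      have hne : (1 : F) - (t : F) ≠ 0 := fun h => ht 1 (Units.ext (by
        rw [one_pow, Units.val_one]; exact (sub_eq_zero.1 h).symm))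
      by_contra hx
      refine hno t (Units.mk0 _ hne) ht (fun s hs => hx ⟨s, ?_⟩) (by simp)
      rw [← hs, Units.val_mk0]
    have hQ1 : (1 : F) ∈ Q := ⟨1, by simp⟩
    have hcard : Q.ncard ≤ N.ncard := by
      refine Set.ncard_le_ncard_of_injOn (fun x => (ω : F) * x) ?_
        (fun x _ y _ h => mul_left_cancel₀ ω.ne_zero h)
      rintro x ⟨s, rfl⟩
      refine ⟨ω * s ^ 2, fun r hr => hω2 ⟨r * s⁻¹, ?_⟩, by simp⟩
      rw [mul_pow, inv_pow, ← hr, mul_inv_cancel_right]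
    have hsub : (fun x => 1 - x) '' N ⊆ Q \ {1} := by
      rintro _ ⟨x, hx, rfl⟩
      refine ⟨hmap x hx, fun h => ?_⟩
      obtain ⟨t, -, rfl⟩ := hx
      simp only [Set.mem_singleton_iff, sub_eq_self] at h
      exact t.ne_zero h
    have h2 := Set.ncard_le_ncard hsub
    rw [Set.ncard_image_of_injective _ (fun x y h => by simpa using h),
      Set.ncard_diff_singleton_of_mem hQ1] at h2
    have : 0 < Q.ncard := (Set.ncard_pos).2 ⟨1, hQ1⟩
    omega
  have hst := hY_mul_of_add_eq_one S hlink i u v huv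
  obtain ⟨s, rfl⟩ := hns u hu
  obtain ⟨s', rfl⟩ := hns v hv
  have e : symb S i (ω * s ^ 2) (ω * s' ^ 2) = 1 := by
    rw [symb, hst, mul_inv_cancel]
  rwa [hnorm, hsymm, hnorm] at e

/-- (R3) for all roots. -/
theorem hY_mul_all [Finite F] (hlink : g.Linked) {r : ℕ} (hr : r < D.nroots) (a b : Fˣ) :
    S.hY r a * S.hY r b = S.hY r (a * b) := by
  have h3 := R3_finite S hlink
  obtain ⟨l, q, hl⟩ := g.exists_word ⟨r, hr⟩
  obtain ⟨c, hc, h1, h2⟩ := S.N_conj_y hlink l (g.sroot q)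
  rw [hl] at h1 h2
  have hinv : c⁻¹ = c := inv_eq_of_mul_eq_one_right hc
  have hn : ∀ t : Fˣ, S.nY r t = S.N l * S.nY (D.simple q) (c * t) * (S.N l)⁻¹ := by
    intro t
    have e1 : ∀ v : F, S.y r v = S.N l * S.y (D.simple q) ((c : F) * v) * (S.N l)⁻¹ := fun v => by
      show S.y r v = S.N l * S.y (g.sroot q) ((c : F) * v) * (S.N l)⁻¹
      rw [h1, ← mul_assoc, ← Units.val_mul, hc, Units.val_one, one_mul]
    have e2 : ∀ v : F, S.y (D.neg r) v =
        S.N l * S.y (D.neg (D.simple q)) ((c : F) * v) * (S.N l)⁻¹ := fun v => by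
      show S.y (g.nroot ⟨r, hr⟩ : ℕ) v = S.N l * S.y (g.nroot (g.sroot q)) ((c : F) * v) * (S.N l)⁻¹
      rw [h2, ← mul_assoc, ← Units.val_mul, hc, Units.val_one, one_mul]
    rw [StData.nY, e1, e2, StData.nY, _root_.mul_inv_rev, hinv, Units.val_mul, Units.val_mul,
      mul_comm ((t⁻¹ : Fˣ) : F) (c : F), mul_neg]
    group
  have hh : ∀ t : Fˣ, S.hY r t = S.N l * S.hY (D.simple q) t * (S.N l)⁻¹ := by
    intro t
    rw [StData.hY, hn, hn, show S.N l * S.nY (D.simple q) (c * t) * (S.N l)⁻¹ *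
      (S.N l * S.nY (D.simple q) (c * -1) * (S.N l)⁻¹) =
      S.N l * (S.nY (D.simple q) (c * t) * S.nY (D.simple q) (c * -1)) * (S.N l)⁻¹ by group,
      mul_neg_one, ← S.nY_inv (g.simple_lt q.2), S.nY_eq (g.simple_lt q.2) (c * t),
      S.nY_eq (g.simple_lt q.2) c, ← h3 q c t, h3 q c t, mul_comm c t, ← h3 q t c]
    group
  rw [hh, hh, hh, ← h3 q a b]
  group

end CfsgLib.KnownA.CExt
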