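import Cfsg.Agent.Lib.KnownA.CExt.Universal

/-!
Central extensions in odd characteristic for `D4` and `F4`: the pairs of roots that the torus does
not separate over the field of three elements have commuting lifts.
-/

set_option autoImplicit false
set_option linter.unusedSectionVars false
set_option maxRecDepth 100000

namespace CfsgLib.KnownA.CExt

open Cfsg.Lie CfsgLib.Chev
open scoped commutatorElement

/-- The only term of the formula for `a, b` is `(k, C, 1, 1)` with `C ∈ {±1, ±2}`. -/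
noncomputable def oneB (D : ChevalleyDatum) (a b k : ℕ) : Bool :=
  List.rec false (fun c l _ => List.rec
    (Nat.beq c.1 k && memAbs [1, 2] c.2.1 && Nat.beq c.2.2.1 1 && Nat.beq c.2.2.2 1)
    (fun _ _ _ => false) l) (fterms D a b)

/-- The coefficient of the first term. -/
noncomputable def coef1 (D : ChevalleyDatum) (a b : ℕ) : ℤ :=
  List.rec 0 (fun c _ _ => c.2.1) (fterms D a b)

/-- No terms, and the roots are neither equal nor opposite. -/
noncomputable def nilB (D : ChevalleyDatum) (a b : ℕ) : Bool :=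
  !(Nat.beq a b) && !(Nat.beq b (fneg D a)) && Nat.blt a D.nroots && Nat.blt b D.nroots &&
    List.rec true (fun _ _ _ => false) (fterms D a b)

/-- A valid pair for the commutator formula. -/
noncomputable def validB (D : ChevalleyDatum) (a b : ℕ) : Bool :=
  !(Nat.beq a b) && !(Nat.beq b (fneg D a)) && Nat.blt a D.nroots && Nat.blt b D.nroots

/-- `s` is a commutator of two roots commuting with `r`. -/
noncomputable def hw1B (D : ChevalleyDatum) (r s : ℕ) (w : ℕ × ℕ) : Bool :=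
  nilB D r s && nilB D r w.1 && nilB D r w.2 && validB D w.1 w.2 && oneB D w.1 w.2 s

/-- Two presentations of `s` as a commutator, exchanging `a` and `c`, with agreeing signs. -/
noncomputable def hw2B (D : ChevalleyDatum) (r s : ℕ) (w : ℕ × ℕ × ℕ × ℕ) : Bool :=
  let a := w.1; let b := w.2.1; let c := w.2.2.1; let b' := w.2.2.2
  nilB D r s && nilB D r a && nilB D r c && nilB D c a && nilB D a c && nilB D c b && nilB D a b' &&
  validB D a b && validB D c b' && validB D r b && validB D r b' &&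
  oneB D a b s && oneB D r b c && oneB D c b' s && oneB D r b' a &&
  memAbs [1] (coef1 D a b) && memAbs [1] (coef1 D r b) && memAbs [1] (coef1 D c b') &&
  memAbs [1] (coef1 D r b') &&
  Int.beq' (coef1 D a b * coef1 D r b) (coef1 D c b' * coef1 D r b')

variable {D : ChevalleyDatum} {F : Type*} [Field F] {g : Good D} {X : Type*} [Group X]
  (S : StData g F X) {E : Type*} [Group E] {π : E →* X}

theorem valid_spec (g : Good D) {a b : ℕ} (h : validB D a b = true) :
    a < D.nroots ∧ b < D.nroots ∧ b ≠ a ∧ b ≠ D.neg a := by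
  simp only [validB, Bool.and_eq_true, Bool.not_eq_true', ← Bool.not_eq_true, Nat.beq_eq,
    Nat.blt_eq] at h
  obtain ⟨⟨⟨h1, h2⟩, h3⟩, h4⟩ := h
  exact ⟨h3, h4, Ne.symm h1, by rw [neg_eq g.lie.pack h3]; exact h2⟩

theorem nil_spec (g : Good D) {a b : ℕ} (h : nilB D a b = true) :
    a < D.nroots ∧ b < D.nroots ∧ b ≠ a ∧ b ≠ D.neg a ∧ D.commTerms a b = [] := by
  have hv : validB D a b = true := by
    simp only [nilB, Bool.and_eq_true] at h
    simp only [validB, Bool.and_eq_true]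
    exact h.1
  obtain ⟨h1, h2, h3, h4⟩ := valid_spec g hv
  refine ⟨h1, h2, h3, h4, ?_⟩
  rw [← g.fterms_eq h1 h2]
  simp only [nilB, Bool.and_eq_true] at h
  match hm : fterms D a b, h.2 with
  | [], _ => rfl
  | c :: l, h' => simp at h'

theorem one_spec (g : Good D) {a b k : ℕ} (ha : a < D.nroots) (hb : b < D.nroots)
    (h : oneB D a b k = true) :
    D.commTerms a b = [(k, coef1 D a b, 1, 1)] ∧ memAbs [1, 2] (coef1 D a b) = true := by
  rw [← g.fterms_eq ha hb]
  unfold oneB at h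
  unfold coef1
  match hm : fterms D a b, h with
  | [(k', C, i, j)], h =>
    simp only [Bool.and_eq_true, Nat.beq_eq] at h
    obtain ⟨⟨⟨rfl, hC⟩, rfl⟩, rfl⟩ := h
    exact ⟨rfl, hC⟩

theorem cast_ne {z : ℤ} (h : memAbs [1, 2] z = true) (h2 : (2 : F) ≠ 0) : (z : F) ≠ 0 := by
  have h' := memAbs_iff h
  simp only [List.mem_cons, List.not_mem_nil, or_false] at h'
  rcases Int.natAbs_eq z with e | e <;> rcases h' with h' | h' <;> rw [e, h'] <;> simp [h2]

theorem cast_sq {z : ℤ} (h : memAbs [1] z = true) : (z : F) * (z : F) = 1 := by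
  have h' := memAbs_iff h
  simp only [List.mem_cons, List.not_mem_nil, or_false] at h'
  rcases Int.natAbs_eq z with e | e <;> rw [e, h'] <;> simp

/-- A one-term commutator as a commutator of root elements. -/
theorem comm_one (S : StData g F X) {a b k : ℕ} {C : ℤ} (ha : a < D.nroots) (hb : b < D.nroots)
    (hba : b ≠ a) (hneg : b ≠ D.neg a) (h : D.commTerms a b = [(k, C, 1, 1)]) (x y : F) :
    ⁅S.y b y, S.y a x⁆ = S.y k (-((C : F) * x * y)) := by
  have h' := S.comm a b ha hb hba hneg (-x) (-y)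
  simp only [ChevalleyDatum.commWord, h, List.map_cons, List.map_nil, List.prod_cons,
    List.prod_nil, mul_one, pow_one, _root_.neg_neg] at h'
  rw [S.y_inv hb, S.y_inv ha, _root_.neg_neg, _root_.neg_neg] at h'
  rw [commutatorElement_def, S.y_inv hb, S.y_inv ha, h']
  congr 1
  ring

variable (hπ : IsCentralSurj π)
include hπ

/-- Roots without commutator terms. -/
theorem comm_nil (S : StData g F X) {a b : ℕ} (h : nilB D a b = true) (t u : F) :
    S.y a t * S.y b u = S.y b u * S.y a t := by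
  obtain ⟨h1, h2, h3, h4, h5⟩ := nil_spec g h
  exact comm_of_coeff_zero hπ S h1 h2 h3 h4 (fun c hc => by rw [h5] at hc; simp at hc) t u

theorem cpair_of_hw1 {r s : ℕ} {w : ℕ × ℕ} (h : hw1B D r s w = true) (h2 : (2 : F) ≠ 0)
    (t u : F) : cpair hπ (S.y r t) (S.y s u) = 1 := by
  simp only [hw1B, Bool.and_eq_true] at h
  obtain ⟨⟨⟨⟨-, hra⟩, hrb⟩, hv⟩, hone⟩ := h
  obtain ⟨ha, hb, hba, hneg⟩ := valid_spec g hv
  obtain ⟨ht, hC⟩ := one_spec g ha hb hone
  have hC' : ((coef1 D w.1 w.2 : ℤ) : F) ≠ 0 := cast_ne hC h2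
  have e := comm_one S ha hb hba hneg ht (-(u / (coef1 D w.1 w.2 : F))) 1
  rw [show -((coef1 D w.1 w.2 : F) * -(u / (coef1 D w.1 w.2 : F)) * 1) = u by field_simp] at e
  rw [← e]
  exact cpair_commutator hπ (comm_nil hπ S hrb t _) (comm_nil hπ S hra t _)

/-- The relation obtained from one presentation of `s`. -/
theorem cpair_rel {r s a b c : ℕ} {C C' : ℤ} (hab : validB D a b = true) (hrb' : validB D r b = true)
    (hs : D.commTerms a b = [(s, C, 1, 1)]) (hc : D.commTerms r b = [(c, C', 1, 1)])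
    (hra : nilB D r a = true) (hca : nilB D c a = true) (hcb : nilB D c b = true) (x y z : F) :
    cpair hπ (S.y r x) (S.y s (-((C : F) * y * z))) =
      cpair hπ (S.y c ((C' : F) * x * z)) (S.y a y) := by
  obtain ⟨ha, hb, hba, hneg⟩ := valid_spec g hab
  obtain ⟨hr, -, hbr, hnegr⟩ := valid_spec g hrb'
  obtain ⟨e, he⟩ := hπ.surj (S.y r x)
  set W := S.y c ((C' : F) * x * z) with hW
  set B := S.y b z
  set A := S.y a y
  have hconj : S.y r x * B * (S.y r x)⁻¹ = W * B := by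
    have h1 := comm_one S hr hb hbr hnegr hc x z
    have h2 : ⁅S.y r x, B⁆ = W := by
      rw [← commutatorElement_inv, h1, S.y_inv]
      · rw [_root_.neg_neg, hW]
      · exact (nil_spec g hca).1
    rw [← h2, commutatorElement_def, inv_mul_cancel_right]
  have hWA : W * A = A * W := comm_nil hπ S hca _ _
  have hWB : W * B = B * W := comm_nil hπ S hcb _ _
  have hRA : S.y r x * A = A * S.y r x := comm_nil hπ S hra _ _
  have h1 := conj_cpair hπ e B A
  rw [he, hconj, hRA, mul_inv_cancel_right] at h1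
  obtain ⟨w, hw⟩ := hπ.surj W
  rw [cpair_mul_left hπ W B A hw] at h1
  have hP : π (cpair hπ B A) = S.y s (-((C : F) * y * z)) := by
    rw [map_cpair, comm_one S ha hb hba hneg hs y z]
  have h2 : w * cpair hπ B A * w⁻¹ = cpair hπ B A := by
    rw [mul_inv_eq_iff_eq_mul]
    exact lift_comm hπ (cpair_commutator hπ hWB hWA) hw (map_cpair hπ B A)
  rw [h2] at h1
  rw [← he, ← hP, cpair_map, commutatorElement_def, h1]
  exact hπ.conj_ker (cpair_mem_ker hπ hWA) _

theorem cpair_of_hw2 {r s : ℕ} {w : ℕ × ℕ × ℕ × ℕ} (h : hw2B D r s w = true) (h2 : (2 : F) ≠ 0)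
    (t u : F) : cpair hπ (S.y r t) (S.y s u) = 1 := by
  obtain ⟨a, b, c, b'⟩ := w
  simp only [hw2B, Bool.and_eq_true, Int.beq'_eq] at h
  obtain ⟨⟨⟨⟨⟨⟨⟨⟨⟨⟨⟨⟨⟨⟨⟨⟨⟨⟨⟨hrs, hra⟩, hrc⟩, hca⟩, hac⟩, hcb⟩, hab'⟩, vab⟩, vcb'⟩, vrb⟩,
    vrb'⟩, oab⟩, orb⟩, ocb'⟩, orb'⟩, u1⟩, u2⟩, u3⟩, u4⟩, hsign⟩ := h
  obtain ⟨ha, hb, -, -⟩ := valid_spec g vab
  obtain ⟨hc, hb', -, -⟩ := valid_spec g vcb'
  obtain ⟨hr, -, -, -⟩ := valid_spec g vrb
  have e1 := (one_spec g ha hb oab).1
  have e2 := (one_spec g hr hb orb).1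
  have e3 := (one_spec g hc hb' ocb').1
  have e4 := (one_spec g hr hb' orb').1
  set C : F := ((coef1 D a b : ℤ) : F) with hC
  set C₁ : F := ((coef1 D r b : ℤ) : F) with hC₁
  set C₂ : F := ((coef1 D c b' : ℤ) : F) with hC₂
  set C₃ : F := ((coef1 D r b' : ℤ) : F) with hC₃
  have q1 : C * C = 1 := cast_sq u1
  have q2 : C₁ * C₁ = 1 := cast_sq u2
  have q3 : C₂ * C₂ = 1 := cast_sq u3
  have q4 : C₃ * C₃ = 1 := cast_sq u4
  have hs : C * C₁ = C₂ * C₃ := by rw [hC, hC₁, hC₂, hC₃, ← Int.cast_mul, ← Int.cast_mul, hsign]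
  set φ : F → E := fun x => cpair hπ (S.y c x) (S.y a 1) with hφ
  -- both relations
  have r1 : ∀ x y z : F, cpair hπ (S.y r x) (S.y s (-(C * y * z))) =
      cpair hπ (S.y c (C₁ * x * z)) (S.y a y) := cpair_rel S hπ vab vrb e1 e2 hra hca hcb
  have r2 : ∀ x y z : F, cpair hπ (S.y r x) (S.y s (-(C₂ * y * z))) =
      (cpair hπ (S.y c y) (S.y a (C₃ * x * z)))⁻¹ := fun x y z => by
    rw [cpair_rel S hπ vcb' vrb' e3 e4 hrc hac hab' x y z, cpair_swap hπ (S.y c y)]
  have g1 : ∀ x y : F, cpair hπ (S.y r x) (S.y s y) = φ (-(C * C₁ * x * y)) := fun x y => by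
    have := r1 x 1 (-(C * y))
    rw [show -(C * 1 * -(C * y)) = y by linear_combination y * q1] at this
    rw [this, hφ]
    show cpair hπ (S.y c _) _ = cpair hπ (S.y c _) _
    rw [show C₁ * x * -(C * y) = -(C * C₁ * x * y) by ring]
  have g2 : ∀ v : F, cpair hπ (S.y c 1) (S.y a v) = φ v := fun v => by
    have := r1 C₁ v 1
    rw [g1, show C₁ * C₁ * 1 = 1 by rw [q2, mul_one]] at this
    rw [← this]
    congr 1
    linear_combination (v * C ^ 2) * q2 + v * q1
  have g3 : ∀ x : F, φ x = (φ x)⁻¹ := fun x => by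
    have := r2 (C₃ * x) 1 1
    rw [g1, show C₃ * (C₃ * x) * 1 = x by rw [mul_one, ← mul_assoc, q4, one_mul], g2] at this
    rw [show -(C * C₁ * (C₃ * x) * -(C₂ * 1 * 1)) = x by
      linear_combination (C₂ * C₃ * x) * hs + (x * C₃ ^ 2) * q3 + x * q4] at this
    exact this
  have g4 : ∀ x : F, φ x = 1 := by
    intro x
    have hh := g3 (x / 2)
    rw [eq_inv_iff_mul_eq_one] at hh
    have hadd : φ (x / 2 + x / 2) = φ (x / 2) * φ (x / 2) := by
      show cpair hπ (S.y c _) _ = _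
      rw [← S.add c hc, cpair_mul_left_of_comm hπ (comm_nil hπ S hca _ _) (comm_nil hπ S hca _ _)]
    rw [show x / 2 + x / 2 = x by field_simp; ring, hh] at hadd
    exact hadd
  rw [g1, g4]

/-! ### The lists -/

/-- Exceptional pairs of `D4`. -/
def excD4 : List ((ℕ × ℕ) × (ℕ × ℕ × ℕ × ℕ)) :=
  [((12, 13), (4, 21, 22, 3)), ((12, 18), (7, 21, 22, 6)), ((12, 23), (15, 21, 22, 14)), ((13, 18), (8, 20, 22, 6)), ((13, 23), (16, 20, 22, 14)), ((14, 17), (5, 22, 23, 4)), ((14, 20), (10, 22, 23, 7)), ((14, 21), (11, 22, 23, 8)), ((15, 16), (5, 21, 23, 3)), ((15, 19), (10, 21, 23, 6)), ((15, 22), (12, 21, 23, 9)), ((16, 19), (11, 20, 23, 6)), ((16, 22), (13, 20, 23, 9)), ((17, 20), (12, 19, 23, 7)), ((17, 21), (13, 19, 23, 8)), ((18, 23), (19, 17, 22, 14)), ((19, 22), (18, 17, 23, 9)), ((20, 21), (18, 16, 23, 8))]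

/-- Exceptional pairs of `F4`. -/
def excF4 : List ((ℕ × ℕ) × (ℕ × ℕ)) :=
  [((24, 32), (13, 40)), ((24, 43), (20, 44)), ((24, 45), (27, 44)), ((25, 30), (11, 40)), ((25, 41), (18, 44)), ((25, 47), (29, 44)), ((26, 31), (12, 40)), ((26, 42), (19, 44)), ((26, 46), (28, 44)), ((30, 41), (18, 44)), ((30, 47), (29, 44)), ((31, 42), (19, 44)), ((31, 46), (28, 44)), ((32, 43), (20, 44)), ((32, 45), (27, 44)), ((41, 47), (36, 40)), ((42, 46), (35, 40)), ((43, 45), (34, 40))]

/-- The exceptions of `D4`. -/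
noncomputable def exD4 (m s : ℕ) : Bool :=
  anyR (fun e => Nat.beq e.1.1 m && Nat.beq e.1.2 s && hw2B chevD4 m s e.2) excD4

/-- The exceptions of `F4`. -/
noncomputable def exF4 (m s : ℕ) : Bool :=
  anyR (fun e => Nat.beq e.1.1 m && Nat.beq e.1.2 s && hw1B chevF4 m s e.2) excF4

omit hπ in
theorem pairsD4odd : pairsOK chevD4 [1, 3] exD4 = true := by decide +kernel
omit hπ in
theorem pairsF4odd : pairsOK chevF4 [1, 3] exF4 = true := by decide +kernel


omit hπ in
theorem pow_neg_one (h2 : (2 : F) ≠ 0) : ∀ d ∈ [1, 3], ∃ c : Fˣ, c ^ d ≠ 1 := by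
  intro d hd
  refine ⟨-1, fun h => h2 ?_⟩
  have h' : ((-1 : F)) ^ d = 1 := by simpa using congrArg Units.val h
  simp only [List.mem_cons, List.not_mem_nil, or_false] at hd
  rcases hd with rfl | rfl <;> linear_combination -h'

/-- The splitting for `D4` and `F4` in odd characteristic. -/
theorem exists_lift_odd (hD : D = chevD4 ∨ D = chevF4) (hlink : g.Linked)
    (hperf : commutator X = ⊤) (h2 : (2 : F) ≠ 0) :
    ∃ τ : D.SteinbergCover F →* E,
      ∀ r < D.nroots, ∀ t, π (τ (D.scGen F r t)) = S.y r t := by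
  have p3 := pow_neg_one (F := F) h2
  have p1 : ∀ d ∈ [1], ∃ c : Fˣ, c ^ d ≠ 1 := fun d hd => p3 d (by simp at hd; simp [hd])
  rcases hD with rfl | rfl
  · refine exists_lift_of S hlink hperf hπ (moves_of_check S hlink movesD4 p1)
      (cpair_self_of_hws S hπ hlink hwD4 (Or.inl rfl) p1)
      (pairs_of_check S hπ hlink pairsD4odd p3 fun m s _ _ _ _ h => ?_)
    obtain ⟨e, -, he⟩ := exists_of_anyR _ _ h
    simp only [Bool.and_eq_true] at he
    have hh := he.2
    simp only [hw2B, Bool.and_eq_true] at hh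
    exact Or.inr ⟨(nil_spec g (show nilB chevD4 m s = true by tauto)).2.2.2.2,
      cpair_of_hw2 S hπ he.2 h2⟩
  · refine exists_lift_of S hlink hperf hπ (moves_of_check S hlink movesF4 p1)
      (cpair_self_of_hws S hπ hlink hwF4 (Or.inl rfl) p1)
      (pairs_of_check S hπ hlink pairsF4odd p3 fun m s _ _ _ _ h => ?_)
    obtain ⟨e, -, he⟩ := exists_of_anyR _ _ h
    simp only [Bool.and_eq_true] at he
    have hh := he.2
    simp only [hw1B, Bool.and_eq_true] at hh
    exact Or.inr ⟨(nil_spec g hh.1.1.1.1).2.2.2.2, cpair_of_hw1 S hπ he.2 h2⟩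

end CfsgLib.KnownA.CExt
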