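import Cfsg.Agent.Lib.KnownA.CExt.Universal
import Cfsg.Agent.Lib.KnownA.CExt.Three
import Cfsg.Agent.Lib.KnownA.CExt.R3Finite
import Cfsg.Agent.Lib.KnownA.MultQuot
import Cfsg.Agent.Lib.Chev.StEmb

/-!
Schur multipliers of Steinberg's groups and of the Chevalley groups.
-/

set_option autoImplicit false
set_option linter.unusedSectionVars false

namespace CfsgLib.KnownA.CExt

open Cfsg.Lie CfsgLib.Chev

universe u

variable {D : ChevalleyDatum} {F : Type u} [Field F]

/-- Every central extension of the group of (R1), (R2) splits. -/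
theorem exists_section (hD : D ∈ [chevG2, chevB2, chevD4, chevF4, chevE6, chevE7, chevE8])
    (g : Good D) (hc : HasComm D) (hperf : commutator (D.SteinbergCover F) = ⊤) (hF : BigField F D)
    {E : Type*} [Group E] {π : E →* D.SteinbergCover F} (hπ : IsCentralSurj π) :
    ∃ τ : D.SteinbergCover F →* E, π.comp τ = MonoidHom.id _ := by
  obtain ⟨τ, hτ⟩ := exists_lift (scData g hc F) hπ hD (linked_of_mem hD g) hperf hF
  refine ⟨τ, MonoidHom.eq_of_eqOn_dense (closure_gen_eq_top (D.steinbergRelsAB F)) ?_⟩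
  rintro _ ⟨r, hr, t, rfl⟩
  exact hτ r hr t

/-- A perfect Steinberg group over which the central extensions split. -/
structure Splits (F : Type u) [Field F] (D : ChevalleyDatum) : Prop where
  perfect : ∀ {Γ : Type u} [Group Γ] {g : Good D}, StData g F Γ → commutator Γ = ⊤
  split : ∀ {E : Type u} [Group E] (π : E →* D.SteinbergCover F), IsCentralSurj π →
    ∃ τ : D.SteinbergCover F →* E, π.comp τ = MonoidHom.id _

/-- Big fields. -/
theorem splits_of_bigField (hD : D ∈ [chevG2, chevB2, chevD4, chevF4, chevE6, chevE7, chevE8])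
    (hF : BigField F D) : Splits F D := by
  obtain ⟨c, hc⟩ := hF.one
  have h2 : D = chevG2 ∨ D = chevB2 → ∃ a : F, a ≠ 0 ∧ a ≠ 1 := fun _ =>
    ⟨c, c.ne_zero, fun h => hc (Units.ext h)⟩
  exact ⟨fun S => stPerfect_of_mem S hD h2, fun π hπ => exists_section hD (good_of_mem hD)
    (hasComm_of_mem hD) (stPerfect_of_mem (scData (good_of_mem hD) (hasComm_of_mem hD) F) hD h2)
    hF hπ⟩

/-- `D4` and `F4` in odd characteristic. -/
theorem splits_of_odd (hD : D = chevD4 ∨ D = chevF4) (h2 : (2 : F) ≠ 0) : Splits F D := by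
  have hm : D ∈ [chevG2, chevB2, chevD4, chevF4, chevE6, chevE7, chevE8] := by
    rcases hD with rfl | rfl <;> simp
  have h1 : D = chevG2 ∨ D = chevB2 → ∃ a : F, a ≠ 0 ∧ a ≠ 1 := fun _ =>
    ⟨-1, by simp, fun h => h2 (by linear_combination -h)⟩
  refine ⟨fun S => stPerfect_of_mem S hm h1, fun {E} _ π hπ => ?_⟩
  set g := good_of_mem hm
  have hc := hasComm_of_mem hm
  obtain ⟨τ, hτ⟩ := exists_lift_odd (scData g hc F) hπ hD (linked_of_mem hm g)
    (stPerfect_of_mem (scData g hc F) hm h1) h2
  refine ⟨τ, MonoidHom.eq_of_eqOn_dense (closure_gen_eq_top (D.steinbergRelsAB F)) ?_⟩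
  rintro _ ⟨r, hr, t, rfl⟩
  exact hτ r hr t

/-- A perfect group over which all central extensions split has only trivial stem extensions. -/
theorem stem_ker_eq_bot {X : Type*} [Group X] (hperf : commutator X = ⊤) {Γ : Type*} [Group Γ]
    {σ : Γ →* X} (hσ : Cfsg.IsStemExtension σ) {τ : X →* Γ} (hτ : σ.comp τ = MonoidHom.id X) :
    σ.ker = ⊥ := by
  have hid : ∀ x, σ (τ x) = x := fun x => DFunLike.congr_fun hτ x
  have hle : commutator Γ ≤ τ.range := by
    rw [commutator_def, Subgroup.commutator_le]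
    intro a _ b _
    have h : ∀ c : Γ, ∃ z ∈ σ.ker, c = τ (σ c) * z := fun c =>
      ⟨(τ (σ c))⁻¹ * c, by rw [MonoidHom.mem_ker, map_mul, map_inv, hid, inv_mul_cancel], by group⟩
    obtain ⟨z, hz, ea⟩ := h a
    obtain ⟨w, hw, eb⟩ := h b
    rw [ea, eb]
    have hcz : ∀ c, z * c = c * z := fun c => (Subgroup.mem_center_iff.1 (hσ.2.1 hz) c).symm
    have hcw : ∀ c, w * c = c * w := fun c => (Subgroup.mem_center_iff.1 (hσ.2.1 hw) c).symm
    refine ⟨σ a * σ b * (σ a)⁻¹ * (σ b)⁻¹, ?_⟩
    rw [map_mul, map_mul, map_mul, map_inv, map_inv, commutatorElement_def]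
    generalize τ (σ a) = x
    generalize τ (σ b) = y
    calc x * y * x⁻¹ * y⁻¹ = x * (z * z⁻¹) * y * x⁻¹ * y⁻¹ := by group
      _ = x * z * (z⁻¹ * y) * x⁻¹ * y⁻¹ := by group
      _ = x * z * (y * z⁻¹) * x⁻¹ * y⁻¹ := by
          rw [show z⁻¹ * y = y * z⁻¹ by
            rw [inv_mul_eq_iff_eq_mul, ← mul_assoc, hcz, mul_inv_cancel_right]]
      _ = x * z * (y * (w * w⁻¹)) * z⁻¹ * x⁻¹ * y⁻¹ := by group
      _ = x * z * (y * w) * (w⁻¹ * (x * z)⁻¹) * y⁻¹ := by group
      _ = x * z * (y * w) * ((x * z)⁻¹ * w⁻¹) * y⁻¹ := by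
          rw [show w⁻¹ * (x * z)⁻¹ = (x * z)⁻¹ * w⁻¹ by
            rw [← _root_.mul_inv_rev, ← _root_.mul_inv_rev, hcw]]
      _ = _ := by group
  refine (Subgroup.eq_bot_iff_forall _).2 fun z hz => ?_
  obtain ⟨x, rfl⟩ := hle (hσ.2.2 hz)
  rw [MonoidHom.mem_ker, hid] at hz
  rw [hz, map_one]

variable [Finite F]

/-- (R1), (R2) imply (R3). -/
theorem exists_coverEquiv (g : Good D) (hc : HasComm D) (hlink : g.Linked) :
    ∃ e : D.SteinbergCover F ≃* D.SteinbergGroup F,
      ∀ (r : ℕ) (t : F), e (D.scGen F r t) = D.stGen F r t := by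
  set S := scData g hc F with hS
  set T := stData g hc F with hT
  have hH : ∀ (r : ℕ) (t : Fˣ),
      S.hY r t = PresentedGroup.mk (D.steinbergRelsAB F) (D.stH r (t : F)) := by
    intro r t
    rw [ChevalleyDatum.stH, mk_prod_gen]
    simp [StData.hY, StData.nY, ChevalleyDatum.hWord, ChevalleyDatum.nWord, hS, scData, presStData,
      mul_assoc]
  let fwd : D.SteinbergCover F →* D.SteinbergGroup F :=
    PresentedGroup.toGroup (f := fun p => PresentedGroup.of (rels := D.steinbergRels F) p) (by
      intro x hx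
      have e : FreeGroup.lift (fun p => PresentedGroup.of (rels := D.steinbergRels F) p) =
          PresentedGroup.mk (D.steinbergRels F) := FreeGroup.ext_hom _ _ fun p => by simp [PresentedGroup.of]
      rw [e]
      exact PresentedGroup.one_of_mem (Set.mem_union_left _ hx))
  have hlift : FreeGroup.lift (fun p => PresentedGroup.of (rels := D.steinbergRelsAB F) p) =
      PresentedGroup.mk (D.steinbergRelsAB F) := FreeGroup.ext_hom _ _ fun p => by
        simp [PresentedGroup.of]
  let bwd : D.SteinbergGroup F →* D.SteinbergCover F :=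
    PresentedGroup.toGroup (f := fun p => PresentedGroup.of (rels := D.steinbergRelsAB F) p) (by
      intro x hx
      rw [hlift]
      rcases hx with hx | ⟨r, a, b, hr, ha, hb, rfl⟩
      · exact PresentedGroup.one_of_mem hx
      · have h := hY_mul_all S hlink hr (Units.mk0 a ha) (Units.mk0 b hb)
        rw [hH, hH, hH, Units.val_mul, Units.val_mk0, Units.val_mk0] at h
        rw [map_mul, map_mul, map_inv, h, mul_inv_cancel])
  refine ⟨MonoidHom.toMulEquiv fwd bwd (PresentedGroup.ext fun p => ?_)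
    (PresentedGroup.ext fun p => ?_), fun r t => ?_⟩
  · simp [fwd, bwd]
  · simp [fwd, bwd]
  · show fwd (PresentedGroup.mk _ (D.stX r t)) = PresentedGroup.mk _ (D.stX r t)
    rw [ChevalleyDatum.stX]
    split
    · exact PresentedGroup.toGroup.of _
    · rw [map_one, map_one, map_one]

/-- Steinberg's group over a finite field is finite. -/
theorem finite_stGroup (g : Good D) (hc : HasComm D) (hlink : g.Linked) :
    Finite (D.SteinbergGroup F) := by
  set S := stData g hc F
  haveI : Finite ↥S.θG.ker := by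
    obtain ⟨Φ, hle, -⟩ := S.HY_le_range hlink (stData_R3 g hc)
    haveI : Finite ↥Φ.range := Finite.of_surjective _ Φ.rangeRestrict_surjective
    haveI : Finite ↥S.HY := Finite.of_injective _ (Subgroup.inclusion_injective hle)
    exact Finite.of_injective _ (Subgroup.inclusion_injective
      ((StData.θG_ker S).le.trans (S.ker_le_HY hlink)))
  haveI : Finite (D.SteinbergGroup F ⧸ S.θG.ker) :=
    Finite.of_injective _ (QuotientGroup.kerLift_injective S.θG)
  exact Finite.of_equiv _ (Subgroup.groupEquivQuotientProdSubgroup (s := S.θG.ker)).symm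

variable (hD : D ∈ [chevG2, chevB2, chevD4, chevF4, chevE6, chevE7, chevE8])
include hD

omit [Finite F] in
theorem two_of_big (hF : BigField F D) :
    D = chevG2 ∨ D = chevB2 → ∃ a : F, a ≠ 0 ∧ a ≠ 1 := fun _ => by
  obtain ⟨c, hc⟩ := hF.one
  exact ⟨c, c.ne_zero, fun h => hc (Units.ext h)⟩

/-- Steinberg's group has trivial multiplier. -/
theorem multiplier_stGroup (hF : Splits F D) :
    Cfsg.HasCyclicSchurMultiplier (D.SteinbergGroup F) 1 := by
  have g := good_of_mem hD
  have hc := hasComm_of_mem hD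
  haveI := finite_stGroup (F := F) g hc (linked_of_mem hD g)
  obtain ⟨e, -⟩ := exists_coverEquiv (F := F) g hc (linked_of_mem hD g)
  have hperf' := hF.perfect (stData g hc F)
  refine CfsgLib.Schur.cyclic_one_of_forall fun Γ _ _ σ hσ => ?_
  have hπ : IsCentralSurj (e.symm.toMonoidHom.comp σ) := by
    refine ⟨e.symm.surjective.comp hσ.1, fun x hx => hσ.2.1 ?_⟩
    simpa [MonoidHom.mem_ker] using hx
  obtain ⟨τ, hτ⟩ := hF.split _ hπ
  refine stem_ker_eq_bot hperf' hσ (τ := τ.comp e.symm.toMonoidHom) (MonoidHom.ext fun x => ?_)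
  have := DFunLike.congr_fun hτ (e.symm x)
  exact e.symm.injective this

/-- The multiplier of the Chevalley group is the centre of Steinberg's group. -/
theorem multiplier_group (hF : Splits F D) (n : ℕ)
    (hcard : Nat.card ↥(Subgroup.center (D.SteinbergGroup F)) = n) (hn : n = 1 ∨ n.Prime) :
    Cfsg.HasCyclicSchurMultiplier ↥(D.group F) n := by
  have g := good_of_mem hD
  have hc := hasComm_of_mem hD
  have hlink := linked_of_mem hD g
  haveI := finite_stGroup (F := F) g hc hlink
  set S := stData g hc F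
  haveI : Finite ↥(D.group F) := Finite.of_surjective _ S.θG_surjective
  have hperf := hF.perfect S
  have hker : S.θG.ker = Subgroup.center (D.SteinbergGroup F) := S.ker_eq_center hlink
  have hstem : Cfsg.IsStemExtension S.θG := by
    refine ⟨S.θG_surjective, hker.le, ?_⟩
    intro x _
    have h : commutator (D.SteinbergGroup F) = ⊤ := hperf
    show x ∈ commutator (D.SteinbergGroup F)
    rw [h]; exact Subgroup.mem_top x
  refine CfsgLib.KnownA.hasCyclicSchurMultiplier_of_cover hstem n (by rw [hker, hcard]) ?_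
    (multiplier_stGroup hD hF)
  rw [hker]
  rcases hn with rfl | hn
  · haveI : Subsingleton ↥(Subgroup.center (D.SteinbergGroup F)) :=
      (Nat.card_eq_one_iff_unique.mp hcard).1
    exact isCyclic_of_subsingleton
  · haveI := Fact.mk hn
    exact isCyclic_of_prime_card hcard

end CfsgLib.KnownA.CExt
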