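import Cfsg.Agent.Lib.KnownA.CExt.Mult
import Cfsg.Agent.Lib.Chev.SuppTables
import Cfsg.Agent.Lib.Chev.WeylTables

/-!
Central extensions for `B₂` over the field of three elements: the long root elements are
commutators of short ones.
-/

set_option autoImplicit false
set_option linter.unusedSectionVars false
set_option maxRecDepth 100000

namespace CfsgLib.KnownA.CExt

open Cfsg.Lie CfsgLib.Chev
open scoped commutatorElement

/-- The short roots of `B₂`. -/
def isShort (r : ℕ) : Bool := Nat.beq r 1 || Nat.beq r 2 || Nat.beq r 5 || Nat.beq r 6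

/-- The two short roots adding up to a long root. -/
def halves (k : ℕ) : ℕ × ℕ :=
  if k = 0 then (1, 2) else if k = 3 then (1, 5) else if k = 4 then (2, 6) else (5, 6)

/-- The table facts used below. -/
noncomputable def b2OK : Bool :=
  allR (fun r => Bool.not (isShort r) ||
    !(Int.beq' (fcartan chevB2 1 r % 2) 0)) (upto 8) &&
  allR (fun r => isShort r || Int.beq' (fcartan chevB2 1 r % 2) 0) (upto 8) &&
  allR (fun k => isShort k || (validB chevB2 (halves k).1 (halves k).2 &&
    oneB chevB2 (halves k).1 (halves k).2 k && isShort (halves k).1 && isShort (halves k).2 &&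
    nilB chevB2 (halves k).1 k && nilB chevB2 (halves k).2 k)) (upto 8) &&
  allR (fun i => allR (fun k => isShort k ||
    ((Nat.beq (refl sdataB2 i (halves k).1) (halves (refl sdataB2 i k)).1 &&
      Nat.beq (refl sdataB2 i (halves k).2) (halves (refl sdataB2 i k)).2) ||
     (Nat.beq (refl sdataB2 i (halves k).1) (halves (refl sdataB2 i k)).2 &&
      Nat.beq (refl sdataB2 i (halves k).2) (halves (refl sdataB2 i k)).1))) (upto 8) &&
    allR (fun k => Nat.beq (if isShort k then 1 else 0)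
      (if isShort (refl sdataB2 i k) then 1 else 0)) (upto 8)) (upto 2) &&
  nilB chevB2 4 6 && nilB chevB2 4 7 && nilB chevB2 6 7 && validB chevB2 4 5 && oneB chevB2 5 6 7

theorem b2OK_true : b2OK = true := by decide +kernel

variable {F : Type*} [Field F] {g : Good chevB2} {X : Type*} [Group X]
  (S : StData g F X) {E : Type*} [Group E] {π : E →* X} (hπ : IsCentralSurj π)

include hπ

/-- The splitting for `B₂` over three elements. -/
theorem exists_lift_b2three (hlink : g.Linked) (hperf : commutator X = ⊤) (h2 : (2 : F) ≠ 0)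
    (h3 : ∀ t : F, t = 0 ∨ t = 1 ∨ t = -1) :
    ∃ τ : chevB2.SteinbergCover F →* E,
      ∀ r < chevB2.nroots, ∀ t, π (τ (chevB2.scGen F r t)) = S.y r t := by
  classical
  have hok := b2OK_true
  simp only [b2OK, Bool.and_eq_true] at hok
  obtain ⟨⟨⟨⟨⟨⟨⟨⟨hodd, heven⟩, hhalf⟩, hrefl⟩, h46⟩, h47⟩, h67⟩, h45⟩, h567⟩ := hok
  have hn : chevB2.nroots = 8 := rfl
  have hhd : half chevB2 = 4 := rfl
  have hneg1 : (-1 : F) ≠ 1 := fun h => h2 (by linear_combination -h)
  have hm2 : (-2 : F) = 1 := by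
    rcases h3 (-2) with h | h | h
    · exact absurd (neg_eq_zero.1 h) h2
    · exact h
    · exact absurd (show (1 : F) = 0 by linear_combination -h) one_ne_zero
  have hprime : ∀ t : F, ∃ n : ℕ, (n : F) = t := fun t => by
    rcases h3 t with rfl | rfl | rfl
    · exact ⟨0, Nat.cast_zero⟩
    · exact ⟨1, Nat.cast_one⟩
    · exact ⟨2, by push_cast; linear_combination (-1 : F) * hm2⟩
  have hcar : ∀ r < chevB2.nroots, chevB2.cartan 1 r = fcartan chevB2 1 r := fun r hr =>
    cartan_eq g.lie.pack (show 1 < chevB2.rank by decide) hr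
  -- the element inverting the short root elements
  obtain ⟨h0, hh0, hsc⟩ := exists_scale S hlink (Pi.single (⟨1, by decide⟩ : Fin chevB2.rank) 1) (-1 : Fˣ)
  have hcwt : ∀ r < chevB2.nroots, cwt chevB2 (Pi.single (⟨1, by decide⟩ : Fin chevB2.rank) 1) r = fcartan chevB2 1 r := by
    intro r hr
    rw [← hcar r hr, cwt, Finset.sum_eq_single (⟨1, by decide⟩ : Fin chevB2.rank)
      (fun k _ hk => by rw [Pi.single_eq_of_ne hk, zero_mul])
      (fun h => absurd (Finset.mem_univ _) h), Pi.single_eq_same, one_mul]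
  have hact : ∀ r < chevB2.nroots, ∀ t, h0 * S.y r t * h0⁻¹ =
      S.y r ((if isShort r then -1 else 1) * t) := by
    intro r hr t
    rw [hsc r hr, hcwt r hr]
    congr 2
    have ho := allR_upto hodd hr
    have he := allR_upto heven hr
    by_cases hs : isShort r = true
    · simp only [hs, Bool.not_true, Bool.false_or, Bool.not_eq_true', ← Bool.not_eq_true,
        Int.beq'_eq] at ho
      rw [if_pos hs, Units.val_zpow_eq_zpow_val, Units.val_neg, Units.val_one,
        Odd.neg_one_zpow (Int.odd_iff.2 (by omega))]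
    · simp only [hs, Bool.false_or, Int.beq'_eq] at he
      rw [if_neg hs, Units.val_zpow_eq_zpow_val, Units.val_neg, Units.val_one,
        Even.neg_one_zpow (Int.even_iff.2 he)]
  have hactS : ∀ r < chevB2.nroots, isShort r = true → ∀ t,
      h0 * S.y r t * h0⁻¹ = S.y r (-1 * t) := fun r hr hs t => by rw [hact r hr, if_pos hs]
  have hactL : ∀ r < chevB2.nroots, isShort r ≠ true → ∀ t,
      h0 * S.y r t * h0⁻¹ = S.y r t := fun r hr hs t => by rw [hact r hr, if_neg hs, one_mul]
  have hself : ∀ r < chevB2.nroots, ∀ t u, cpair hπ (S.y r t) (S.y r u) = 1 := fun r hr t u =>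
    cpair_self_of_prime S hπ hr hprime t u
  -- short and long roots separated
  have hsep : ∀ r k, r < chevB2.nroots → k < chevB2.nroots → isShort r = true →
      isShort k ≠ true → (∀ t u, S.y r t * S.y k u = S.y k u * S.y r t) →
      ∀ t u, cpair hπ (S.y r t) (S.y k u) = 1 := by
    intro r k hr hk hs hl hcomm t u
    obtain ⟨e, he⟩ := hπ.surj h0
    have hinv : ∀ a, cpair hπ (S.y r (-1 * a)) (S.y k u) = cpair hπ (S.y r a) (S.y k u) := by
      intro a
      have h1 := conj_cpair hπ e (S.y r a) (S.y k u)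
      rw [hπ.conj_ker (cpair_mem_ker hπ (hcomm a u)), he, hactS r hr hs, hactL k hk hl] at h1
      exact h1.symm
    have h1 := hinv t
    have h4 : cpair hπ (S.y r t) (S.y k u) * cpair hπ (S.y r t) (S.y k u) = 1 := by
      nth_rewrite 1 [← h1]
      rw [← cpair_mul_left_of_comm hπ (hcomm _ u) (hcomm _ u), S.add r hr,
        show -1 * t + t = 0 by ring, S.y_zero hr, cpair_one_left]
    have h5 : cpair hπ (S.y r (t + t)) (S.y k u) =
        cpair hπ (S.y r t) (S.y k u) * cpair hπ (S.y r t) (S.y k u) := by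
      rw [← S.add r hr, cpair_mul_left_of_comm hπ (hcomm _ u) (hcomm _ u)]
    rw [h4, show t + t = -1 * t by linear_combination (-t) * hm2, hinv] at h5
    exact h5
  -- half facts
  have hfacts : ∀ k < chevB2.nroots, isShort k ≠ true →
      (halves k).1 < chevB2.nroots ∧ (halves k).2 < chevB2.nroots ∧
      isShort (halves k).1 = true ∧ isShort (halves k).2 = true ∧
      (∀ t u, S.y (halves k).1 t * S.y k u = S.y k u * S.y (halves k).1 t) ∧
      (∀ t u, S.y (halves k).2 t * S.y k u = S.y k u * S.y (halves k).2 t) ∧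
      ∃ C : F, C ≠ 0 ∧ ∀ α β, ⁅S.y (halves k).2 β, S.y (halves k).1 α⁆ = S.y k (C * α * β) := by
    intro k hk hl
    have h := allR_upto hhalf hk
    simp only [hl, Bool.false_or, Bool.and_eq_true] at h
    obtain ⟨⟨⟨⟨⟨hv, ho⟩, hs1⟩, hs2⟩, hn1⟩, hn2⟩ := h
    obtain ⟨ha, hb, hba, hbn⟩ := valid_spec g hv
    obtain ⟨ht, hC⟩ := one_spec g ha hb ho
    refine ⟨ha, hb, hs1, hs2, comm_nil hπ S hn1, comm_nil hπ S hn2,
      -((coef1 chevB2 (halves k).1 (halves k).2 : ℤ) : F), neg_ne_zero.2 (cast_ne hC h2),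
      fun α β => ?_⟩
    rw [comm_one S ha hb hba hbn ht]
    congr 1
    ring
  set P : ℕ → F → F → E := fun k α β => cpair hπ (S.y (halves k).2 β) (S.y (halves k).1 α) with hP
  choose hA hB hAs hBs hAc hBc C hC hPC using hfacts
  have hπP : ∀ k (hk : k < chevB2.nroots) (hl : isShort k ≠ true) α β,
      π (P k α β) = S.y k (C k hk hl * α * β) := fun k hk hl α β => by
    rw [hP, map_cpair, hPC k hk hl]
  -- biadditivity
  have hlift : ∀ k (hk : k < chevB2.nroots) (hl : isShort k ≠ true) α β (x : E) (v : F),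
      (π x = S.y (halves k).1 v ∨ π x = S.y (halves k).2 v) → x * P k α β = P k α β * x := by
    intro k hk hl α β x v hx
    rcases hx with hx | hx
    · exact lift_comm hπ (hsep _ _ (hA k hk hl) hk (hAs k hk hl) hl (hAc k hk hl) v _) hx
        (hπP k hk hl α β)
    · exact lift_comm hπ (hsep _ _ (hB k hk hl) hk (hBs k hk hl) hl (hBc k hk hl) v _) hx
        (hπP k hk hl α β)
  have hPadd1 : ∀ k, k < chevB2.nroots → isShort k ≠ true → ∀ α α' β,
      P k (α + α') β = P k α β * P k α' β := by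
    intro k hk hl α α' β
    obtain ⟨y, hy⟩ := hπ.surj (S.y (halves k).1 α)
    simp only [hP]
    rw [← S.add _ (hA k hk hl), cpair_mul_right hπ _ _ _ hy]
    congr 1
    have := hlift k hk hl α' β y α (Or.inl hy)
    simp only [hP] at this
    rw [this, mul_inv_cancel_right]
  have hPadd2 : ∀ k, k < chevB2.nroots → isShort k ≠ true → ∀ α β β',
      P k α (β + β') = P k α β' * P k α β := by
    intro k hk hl α β β'
    obtain ⟨y, hy⟩ := hπ.surj (S.y (halves k).2 β)
    simp only [hP]
    rw [← S.add _ (hB k hk hl), cpair_mul_left hπ _ _ _ hy]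
    congr 1
    have := hlift k hk hl α β' y β (Or.inr hy)
    simp only [hP] at this
    rw [this, mul_inv_cancel_right]
  have hP0 : ∀ k, k < chevB2.nroots → isShort k ≠ true → ∀ β, P k 0 β = 1 := fun k hk hl β => by
    simp only [hP]; rw [S.y_zero (hA k hk hl), cpair_one_right]
  have hPnorm : ∀ k, k < chevB2.nroots → isShort k ≠ true → ∀ α β, P k α β = P k (α * β) 1 := by
    intro k hk hl α β
    have hneg : ∀ α', P k α' (-1) = (P k α' 1)⁻¹ := fun α' => by
      refine eq_inv_of_mul_eq_one_left ?_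
      rw [← hPadd2 k hk hl, add_neg_cancel]
      simp only [hP]; rw [S.y_zero (hB k hk hl), cpair_one_left]
    have hneg1 : ∀ α', P k (-α') 1 = (P k α' 1)⁻¹ := fun α' => by
      refine eq_inv_of_mul_eq_one_left ?_
      rw [← hPadd1 k hk hl, neg_add_cancel, hP0 k hk hl]
    rcases h3 β with rfl | rfl | rfl
    · rw [mul_zero, hP0 k hk hl]
      simp only [hP]; rw [S.y_zero (hB k hk hl), cpair_one_left]
    · rw [mul_one]
    · rw [hneg, mul_neg, mul_one, hneg1]
  -- the lifts
  set L : ℕ → F → E := fun r t => if hr : r < chevB2.nroots then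
      (if hs : isShort r = true then cpair hπ h0 (S.y r t) else P r (t / C r hr hs) 1) else 1
    with hLdef
  have hLS : ∀ r (hr : r < chevB2.nroots), isShort r = true → ∀ t,
      L r t = cpair hπ h0 (S.y r t) := fun r hr hs t => by simp [hLdef, hr, hs]
  have hLL : ∀ r (hr : r < chevB2.nroots) (hl : isShort r ≠ true) t,
      L r t = P r (t / C r hr hl) 1 := fun r hr hl t => by simp [hLdef, hr, hl]
  have hmap : ∀ r < chevB2.nroots, ∀ t, π (L r t) = S.y r t := by
    intro r hr t
    by_cases hs : isShort r = true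
    · rw [hLS r hr hs, map_cpair, commutatorElement_def, hactS r hr hs, S.y_inv hr, S.add r hr]
      congr 1
      linear_combination t * hm2
    · rw [hLL r hr hs, hπP r hr hs, mul_one, mul_div_cancel₀ _ (hC r hr hs)]
  have hadd : ∀ r < chevB2.nroots, ∀ a b, L r a * L r b = L r (a + b) := by
    intro r hr a b
    by_cases hs : isShort r = true
    · rw [hLS r hr hs (a + b), ← S.add r hr]
      obtain ⟨y, hy⟩ := hπ.surj (S.y r a)
      rw [cpair_mul_right hπ _ _ _ hy, ← hLS r hr hs, ← hLS r hr hs,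
        lift_comm hπ (hself r hr a b) hy (hmap r hr b), mul_inv_cancel_right]
    · rw [hLL r hr hs, hLL r hr hs, hLL r hr hs, add_div, hPadd1 r hr hs]
  have hzero : ∀ r < chevB2.nroots, L r 0 = 1 := fun r hr => by
    have := hadd r hr 0 0
    rw [add_zero] at this
    exact mul_eq_left.1 this
  -- a pairing of the halves is the lift
  have hpairL : ∀ k (hk : k < chevB2.nroots) (hl : isShort k ≠ true) (z : E) (v : F),
      π z = S.y k v → (∃ α β, z = P k α β ∨ z = (P k α β)⁻¹) → z = L k v := by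
    intro k hk hl z v hz hzP
    obtain ⟨α, hz'⟩ : ∃ α, z = P k α 1 := by
      obtain ⟨α, β, h | h⟩ := hzP
      · exact ⟨α * β, by rw [h, hPnorm k hk hl]⟩
      · refine ⟨-(α * β), ?_⟩
        rw [h, hPnorm k hk hl]
        refine inv_eq_of_mul_eq_one_right ?_
        rw [← hPadd1 k hk hl, add_neg_cancel, hP0 k hk hl]
    have h1 : C k hk hl * α * 1 = v := by
      rw [hz', hπP k hk hl] at hz
      have h := congrArg S.θ hz
      rw [S.θy k hk, S.θy k hk] at h
      exact g.x_inj hk h
    rw [hLL k hk hl, hz', ← h1, mul_one, mul_div_cancel_left₀ α (hC k hk hl)]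
  have hscale : ∀ r < chevB2.nroots, ∀ (e : E) (d : F), π e ∈ S.HY →
      (∀ t, π e * S.y r t * (π e)⁻¹ = S.y r (d * t)) → ∀ t, e * L r t * e⁻¹ = L r (d * t) := by
    intro r hr e d he hd t
    by_cases hs : isShort r = true
    · rw [hLS r hr hs, hLS r hr hs, conj_cpair, hd, HY_conj_comm S hlink hperf hπ hh0 he]
    · refine hpairL r hr hs _ _ ?_ ?_
      · rw [map_mul, map_mul, map_inv, hmap r hr, hd]
      obtain ⟨c1, h1⟩ := S.HY_scale hlink he ⟨_, hA r hr hs⟩
      obtain ⟨c2, h2'⟩ := S.HY_scale hlink he ⟨_, hB r hr hs⟩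
      refine ⟨(c1 : F) * (t / C r hr hs), (c2 : F) * 1, Or.inl ?_⟩
      rw [hLL r hr hs]
      simp only [hP]
      rw [conj_cpair]
      rw [show π e * S.y (halves r).2 1 * (π e)⁻¹ = S.y (halves r).2 ((c2 : F) * 1) from h2' 1,
        show π e * S.y (halves r).1 (t / C r hr hs) * (π e)⁻¹ = _ from h1 (t / C r hr hs)]
  have hindep : ∀ r < chevB2.nroots, isShort r = true → ∀ h' ∈ S.HY,
      (∀ t, h' * S.y r t * h'⁻¹ = S.y r (-1 * t)) → ∀ v, cpair hπ h' (S.y r v) = L r v := by
    intro r hr hs h' hh' hd v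
    obtain ⟨e, rfl⟩ := hπ.surj h'
    rw [← hmap r hr v, cpair_map, commutatorElement_def, hscale r hr e (-1) hh' hd,
      show (L r v)⁻¹ = L r (-v) from inv_eq_of_mul_eq_one_right
        (by rw [hadd r hr, add_neg_cancel, hzero r hr]), hadd r hr]
    congr 1
    linear_combination v * hm2
  have hconj : ∀ (e : E) (i : Fin chevB2.rank) (s : Fin chevB2.nroots), π e = S.nI i → ∀ t,
      e * L s t * e⁻¹ = L (g.rperm i s : ℕ) ((g.eta i s : F) * t) := by
    intro e i s he t
    have htab : ∀ r : Fin chevB2.nroots, (g.rperm i r : ℕ) = refl sdataB2 i r := fun r =>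
      g.rperm_tab checksB2 structChecksB2 i r
    have hr2 := allR_upto hrefl i.2
    simp only [Bool.and_eq_true] at hr2
    have hss := allR_upto hr2.2 s.2
    simp only [Nat.beq_eq] at hss
    by_cases hs : isShort s = true
    · have hs' : isShort (g.rperm i s : ℕ) = true := by
        rw [htab]
        rw [if_pos hs] at hss
        by_contra hc
        rw [if_neg hc] at hss
        omega
      rw [hLS s s.2 hs, conj_cpair, he, S.nI_conj_y hlink i s,
        hindep _ (Fin.isLt _) hs' _ (S.nI_conj_HY hlink hh0 i) (fun v => ?_)]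
      have hne : (g.eta i s : F) * (g.eta i s : F) = 1 := by
        rcases g.eta_sign i.2 s.2 with h | h <;> rw [h] <;> simp
      have e1 := S.nI_conj_y hlink i s ((g.eta i s : F) * v)
      rw [← mul_assoc, hne, one_mul] at e1
      have e2 := S.nI_conj_y hlink i s (-1 * ((g.eta i s : F) * v))
      rw [show (g.eta i s : F) * (-1 * ((g.eta i s : F) * v)) = -1 * v by
        linear_combination (-v) * hne] at e2
      rw [← e2, ← hactS s s.2 hs, ← e1]
      group
    · have hs' : isShort (g.rperm i s : ℕ) ≠ true := by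
        rw [htab]
        rw [if_neg hs] at hss
        intro hc
        rw [if_pos hc] at hss
        omega
      refine hpairL _ (Fin.isLt _) hs' _ _ ?_ ?_
      · rw [map_mul, map_mul, map_inv, he, hmap s s.2, S.nI_conj_y hlink i s]
      rw [hLL s s.2 hs]
      simp only [hP]
      rw [conj_cpair, he,
        show S.y (halves s).2 (1 : F) = S.y ((⟨_, hB s s.2 hs⟩ : Fin chevB2.nroots) : ℕ) 1 from rfl,
        show S.y (halves s).1 (t / C s s.2 hs) =
          S.y ((⟨_, hA s s.2 hs⟩ : Fin chevB2.nroots) : ℕ) (t / C s s.2 hs) from rfl,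
        S.nI_conj_y hlink i, S.nI_conj_y hlink i, htab, htab, htab]
      have hh := allR_upto hr2.1 s.2
      simp only [hs, Bool.false_or, Bool.or_eq_true, Bool.and_eq_true, Nat.beq_eq] at hh
      rcases hh with ⟨a1, a2⟩ | ⟨a1, a2⟩
      · rw [a1, a2]
        exact ⟨_, _, Or.inl rfl⟩
      · rw [a1, a2]
        exact ⟨_, _, Or.inr (cpair_swap hπ _ _)⟩
  let Λ : LiftData S π := ⟨L, hmap, hadd, hscale, hconj⟩
  -- the positive pairs
  have hc46 := comm_nil hπ S h46
  have hl7 : isShort 7 ≠ true := by decide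
  have hl4 : isShort 4 ≠ true := by decide
  have hlt : ∀ r, r < 8 → r < chevB2.nroots := fun r h => h
  have hPR : ∀ r k, r < chevB2.nroots → k < chevB2.nroots → isShort r = true → isShort k ≠ true →
      (∃ h ∈ S.HY, ∃ c : F, c ≠ 1 ∧ (∀ u, h * S.y r u * h⁻¹ = S.y r (c * u)) ∧
        ∀ t, h * S.y k t * h⁻¹ = S.y k t) := fun r k hr hk hs hl =>
    ⟨h0, hh0, -1, hneg1, hactS r hr hs, hactL k hk hl⟩
  have h47' : ∀ t u, cpair hπ (S.y 4 t) (S.y 7 u) = 1 := by
    intro t u
    have h7 : 7 < chevB2.nroots := hlt 7 (by omega)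
    have h6s : isShort 6 = true := by decide
    have e67 := hsep 6 7 (hlt 6 (by omega)) h7 h6s hl7 (comm_nil hπ S h67)
    obtain ⟨-, -, h54, h54'⟩ := valid_spec g h45
    set A := S.y 5 (u / C 7 h7 hl7)
    set B := S.y 6 (1 : F)
    obtain ⟨e, he⟩ := hπ.surj (S.y 4 t)
    have hcm := S.comm 4 5 (hlt 4 (by omega)) (hlt 5 (by omega)) h54 h54' (-t) (-(u / C 7 h7 hl7))
    rw [S.y_inv (hlt 4 (by omega)), S.y_inv (hlt 5 (by omega)), _root_.neg_neg,
      _root_.neg_neg] at hcm
    set Wd := ((chevB2.commWord F 4 5 (-t) (-(u / C 7 h7 hl7))).map fun p => S.y p.1 p.2).prod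
    have hRA : S.y 4 t * A * (S.y 4 t)⁻¹ = Wd⁻¹ * A := by
      rw [← hcm]
      simp only [A]
      rw [← S.y_inv (hlt 4 (by omega)), ← S.y_inv (hlt 5 (by omega))]
      group
    have hmem : ∀ r', r' = B ∨ r' = S.y 7 u → Wd ∈ commSet hπ r' := by
      intro r' hr'
      refine Subgroup.list_prod_mem _ fun x hx => ?_
      obtain ⟨p, hp, rfl⟩ := List.mem_map.1 hx
      obtain ⟨c, hc, rfl⟩ := List.mem_map.1 hp
      have hc' : c.1 = 6 ∨ c.1 = 7 := by
        have hck : allR (fun c => Nat.beq c.1 6 || Nat.beq c.1 7) (fterms chevB2 4 5) = true := by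
          decide +kernel
        rw [← g.fterms_eq (hlt 4 (by omega)) (hlt 5 (by omega))] at hc
        simpa using allR_true hck hc
      rw [mem_commSet]
      show cpair hπ r' (S.y c.1 _) = 1
      rcases hr' with rfl | rfl <;> rcases hc' with h | h <;> rw [h]
      · exact hself 6 (hlt 6 (by omega)) _ _
      · exact e67 _ _
      · rw [cpair_swap hπ, e67, inv_one]
      · exact hself 7 h7 _ _
    have hP7 : π (cpair hπ B A) = S.y 7 u := by
      have := hπP 7 h7 hl7 (u / C 7 h7 hl7) 1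
      rw [mul_one, mul_div_cancel₀ _ (hC 7 h7 hl7)] at this
      exact this
    have h1 := conj_cpair hπ e B A
    obtain ⟨w, hw⟩ := hπ.surj Wd⁻¹
    rw [he, hRA, show S.y 4 t * B = B * S.y 4 t from hc46 t 1, mul_inv_cancel_right,
      cpair_mul_right hπ B _ A hw,
      show cpair hπ B Wd⁻¹ = 1 from inv_mem (hmem B (Or.inl rfl)), one_mul,
      ← lift_comm hπ (show cpair hπ (S.y 7 u) Wd⁻¹ = 1 from inv_mem (hmem _ (Or.inr rfl))) hP7 hw,
      mul_inv_cancel_right] at h1
    rw [← he, ← hP7, cpair_eq_one_iff, mul_inv_eq_iff_eq_mul.1 h1]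
  have hpair : ∀ m s, half chevB2 ≤ m → m < s → s < chevB2.nroots → Λ.PairOK' hπ m s := by
    intro m s hm hms hs
    rw [hhd] at hm
    rw [hn] at hs
    obtain ⟨rfl, rfl⟩ | ⟨rfl, rfl⟩ | ⟨rfl, rfl⟩ | ⟨rfl, rfl⟩ | ⟨rfl, rfl⟩ | ⟨rfl, rfl⟩ :
        (m = 4 ∧ s = 5) ∨ (m = 4 ∧ s = 6) ∨ (m = 4 ∧ s = 7) ∨ (m = 5 ∧ s = 6) ∨ (m = 5 ∧ s = 7) ∨
          (m = 6 ∧ s = 7) := by omega
    · exact Or.inr (Or.inl (hPR 5 4 (hlt _ (by omega)) (hlt _ (by omega)) (by decide) hl4))
    · exact Or.inr (Or.inl (hPR 6 4 (hlt _ (by omega)) (hlt _ (by omega)) (by decide) hl4))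
    · exact Or.inl (Or.inr ⟨(nil_spec g h47).2.2.2.2, h47'⟩)
    · refine Or.inr (Or.inr (Or.inl fun t u => ?_))
      have h5 : 5 < chevB2.nroots := hlt 5 (by omega)
      have h6 : 6 < chevB2.nroots := hlt 6 (by omega)
      have h7 : 7 < chevB2.nroots := hlt 7 (by omega)
      have hneg : (6 : ℕ) ≠ chevB2.neg 5 := by decide
      obtain ⟨ht, -⟩ := one_spec g h5 h6 h567
      have e2 : Λ.prodE 5 6 t u = L 7 ((coef1 chevB2 5 6 : F) * (-t) * u) := by
        simp [LiftData.prodE, ChevalleyDatum.commWord, ht, Λ]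
      rw [e2]
      refine hpairL 7 h7 hl7 _ _ ?_ ⟨-t, -u, Or.inl ?_⟩
      · rw [Λ.map_commE h5 h6 (by omega) hneg, e2, hmap 7 h7]
      · show _ = cpair hπ (S.y 6 (-u)) (S.y 5 (-t))
        rw [← S.y_inv h6, ← S.y_inv h5,
          cpair_eq hπ (x := (L 6 u)⁻¹) (y := (L 5 t)⁻¹) (by rw [map_inv, hmap 6 h6])
            (by rw [map_inv, hmap 5 h5]), commutatorElement_def, inv_inv, inv_inv]
        rfl
    · exact Or.inl (Or.inl (hPR 5 7 (hlt _ (by omega)) (hlt _ (by omega)) (by decide) hl7))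
    · exact Or.inl (Or.inl (hPR 6 7 (hlt _ (by omega)) (hlt _ (by omega)) (by decide) hl7))
  obtain ⟨τ, hτ⟩ := Λ.exists_hom hπ hlink hpair
  exact ⟨τ, fun r hr t => by rw [hτ r hr t, Λ.map r hr]⟩

omit hπ in
/-- `B₂` over three elements. -/
theorem splits_b2three {F : Type*} [Field F] (h2 : (2 : F) ≠ 0)
    (h3 : ∀ t : F, t = 0 ∨ t = 1 ∨ t = -1) : Splits F chevB2 := by
  have hm : chevB2 ∈ [chevG2, chevB2, chevD4, chevF4, chevE6, chevE7, chevE8] := by simp
  have h1 : chevB2 = chevG2 ∨ chevB2 = chevB2 → ∃ a : F, a ≠ 0 ∧ a ≠ 1 := fun _ =>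
    ⟨-1, by simp, fun h => h2 (by linear_combination -h)⟩
  refine ⟨fun S => stPerfect_of_mem S hm h1, fun {E} _ π hπ => ?_⟩
  set g := good_of_mem hm
  have hc := hasComm_of_mem hm
  obtain ⟨τ, hτ⟩ := exists_lift_b2three (scData g hc F) hπ (linked_of_mem hm g)
    (stPerfect_of_mem (scData g hc F) hm h1) h2 h3
  refine ⟨τ, MonoidHom.eq_of_eqOn_dense (closure_gen_eq_top (chevB2.steinbergRelsAB F)) ?_⟩
  rintro _ ⟨r, hr, t, rfl⟩
  exact hτ r hr t

end CfsgLib.KnownA.CExt
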