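import Cfsg.Agent.Lib.KnownA.CExt.Torus

/-!
Boolean certificates for the separation of roots by the torus and for root elements that are
commutators.
-/

set_option autoImplicit false
set_option linter.unusedSectionVars false

namespace CfsgLib.KnownA.CExt

open Cfsg.Lie CfsgLib.Chev
open scoped commutatorElement

/-- Membership of an absolute value in a list. -/
noncomputable def memAbs (dl : List ℕ) (z : ℤ) : Bool :=
  anyR (fun d : ℕ => Int.beq' z (d : ℤ) || Int.beq' z (-(d : ℤ))) dl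

/-- A cocharacter killing `s` and meeting `m` in a listed value. -/
noncomputable def sepB (D : ChevalleyDatum) (dl : List ℕ) (m s : ℕ) : Bool :=
  anyR (fun j => anyR (fun k => memAbs dl
      (fcartan D k s * fcartan D j m - fcartan D j s * fcartan D k m)) (upto D.rank)) (upto D.rank) ||
    (Int.beq' (sumUpto D.rank (fun j => fcoroot D m j * fcartan D j s)) 0 &&
      memAbs dl (sumUpto D.rank (fun j => fcoroot D m j * fcartan D j m)))

/-- All coefficients of the commutator formula vanish in characteristic `p` (`p = 0`: none occur). -/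
noncomputable def commB (D : ChevalleyDatum) (p r s : ℕ) : Bool :=
  allR (fun c => Int.beq' (c.2.1 % (p : ℤ)) 0 && Nat.blt 0 p) (fterms D r s)

/-- The positive pairs are separated, apart from the listed ones. -/
noncomputable def pairsOK (D : ChevalleyDatum) (dl : List ℕ) (ex : ℕ → ℕ → Bool) : Bool :=
  allR (fun m => allR (fun s => Nat.blt m (half D) || Nat.ble s m || sepB D dl m s || ex m s)
    (upto D.nroots)) (upto D.nroots)

/-- Every root has a cartan integer in the list. -/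
noncomputable def movesOK (D : ChevalleyDatum) (dl : List ℕ) : Bool :=
  allR (fun r => anyR (fun j => memAbs dl (fcartan D j r)) (upto D.rank)) (upto D.nroots)

/-- The fundamental root `i` has a cartan integer `±1`. -/
noncomputable def unitB (D : ChevalleyDatum) (i : ℕ) : Bool :=
  anyR (fun j => memAbs [1] (fcartan D j (D.simple i))) (upto D.rank)

/-- `r` occurs in the commutator of `w.1`, `w.2`, whose root subgroups commute with that of `r`,
and the other terms are separated from `r`. -/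
noncomputable def hwB (D : ChevalleyDatum) (p : ℕ) (dl : List ℕ) (r : ℕ) (w : ℕ × ℕ) : Bool :=
  Nat.blt w.1 D.nroots && Nat.blt w.2 D.nroots && !(Nat.beq w.2 w.1) &&
  !(Nat.beq w.2 (fneg D w.1)) && !(Nat.beq w.1 r) && !(Nat.beq w.1 (fneg D r)) &&
  !(Nat.beq w.2 r) && !(Nat.beq w.2 (fneg D r)) && commB D p r w.1 && commB D p r w.2 &&
  anyR (fun c => Nat.beq c.1 r && (Int.beq' c.2.1 1 || Int.beq' c.2.1 (-1)) &&
    (Nat.beq c.2.2.1 1 || Nat.beq c.2.2.2 1)) (fterms D w.1 w.2) &&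
  allR (fun c => Nat.beq c.1 r || (!(Nat.beq c.1 (fneg D r)) && commB D p r c.1 &&
    sepB D dl r c.1)) (fterms D w.1 w.2) &&
  Nat.beq (natSum (fun c => if Nat.beq c.1 r then 1 else 0) (fterms D w.1 w.2)) 1
where
  /-- A sum over a list. -/
  natSum (f : ℕ × ℤ × ℕ × ℕ → ℕ) (l : List (ℕ × ℤ × ℕ × ℕ)) : ℕ :=
    List.rec 0 (fun c _ ih => f c + ih) l

variable {D : ChevalleyDatum} {F : Type*} [Field F] {g : Good D} {X : Type*} [Group X]
  (S : StData g F X) {E : Type*} [Group E] {π : E →* X}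

theorem exists_of_anyR {α : Type} (f : α → Bool) : ∀ L : List α, anyR f L = true →
    ∃ x ∈ L, f x = true := by
  intro L
  induction L with
  | nil => intro h; simp [anyR] at h
  | cons a L ih =>
    intro h
    have h' : (f a || anyR f L) = true := h
    rw [Bool.or_eq_true] at h'
    rcases h' with h' | h'
    · exact ⟨a, by simp, h'⟩
    · obtain ⟨x, hx, hx'⟩ := ih h'
      exact ⟨x, by simp [hx], hx'⟩

theorem memAbs_iff {dl : List ℕ} {z : ℤ} (h : memAbs dl z = true) : z.natAbs ∈ dl := by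
  obtain ⟨d, hd, h'⟩ := exists_of_anyR _ _ h
  simp only [Bool.or_eq_true, Int.beq'_eq] at h'
  rcases h' with rfl | rfl <;> simpa using hd

theorem pow_ne_of_natAbs {c : Fˣ} {z : ℤ} (h : c ^ z.natAbs ≠ 1) : c ^ z ≠ 1 := by
  intro h'
  apply h
  rcases Int.natAbs_eq z with e | e <;> rw [e] at h'
  · exact_mod_cast h'
  · rw [_root_.zpow_neg, inv_eq_one] at h'
    exact_mod_cast h'

/-- A cocharacter from the certificate. -/
theorem exists_cochar {dl : List ℕ} {m s : ℕ} (g : Good D) (hm : m < D.nroots) (hs : s < D.nroots)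
    (h : sepB D dl m s = true) :
    ∃ A : Fin D.rank → ℤ, cwt D A s = 0 ∧ (cwt D A m).natAbs ∈ dl := by
  classical
  have hcar : ∀ (j : Fin D.rank) {r : ℕ}, r < D.nroots → fcartan D j r = D.cartan j r :=
    fun j r hr => (cartan_eq g.lie.pack j.2 hr).symm
  simp only [sepB, Bool.or_eq_true, Bool.and_eq_true, Int.beq'_eq] at h
  rcases h with h | ⟨h0, h1⟩
  · obtain ⟨j, hj, h'⟩ := exists_of_anyR _ _ h
    obtain ⟨k, hk, h'⟩ := exists_of_anyR _ _ h'
    set j' : Fin D.rank := ⟨j, lt_of_mem_upto hj⟩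
    set k' : Fin D.rank := ⟨k, lt_of_mem_upto hk⟩
    have hv : ∀ r, cwt D (Pi.single j' (fcartan D k s) - Pi.single k' (fcartan D j s)) r =
        fcartan D k s * D.cartan j r - fcartan D j s * D.cartan k r := by
      intro r
      simp only [cwt, Pi.sub_apply, sub_mul, Finset.sum_sub_distrib, Pi.single_apply, ite_mul,
        zero_mul, Finset.sum_ite_eq', Finset.mem_univ, if_true]
      rfl
    refine ⟨Pi.single j' (fcartan D k s) - Pi.single k' (fcartan D j s), ?_, ?_⟩
    · rw [hv, show D.cartan j s = fcartan D j s from (hcar j' hs).symm,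
        show D.cartan k s = fcartan D k s from (hcar k' hs).symm]
      ring
    · rw [hv, show D.cartan j m = fcartan D j m from (hcar j' hm).symm,
        show D.cartan k m = fcartan D k m from (hcar k' hm).symm]
      exact memAbs_iff h'
  · refine ⟨fun j => fcoroot D m j, ?_, ?_⟩
    · rw [cwt, ← h0, sumUpto_eq, Finset.sum_range]
      exact Finset.sum_congr rfl fun j _ => by rw [hcar j hs]
    · have e : cwt D (fun j => fcoroot D m j) m =
          sumUpto D.rank (fun j => fcoroot D m j * fcartan D j m) := by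
        rw [cwt, sumUpto_eq, Finset.sum_range]
        exact Finset.sum_congr rfl fun j _ => by rw [hcar j hm]
      rw [e]
      exact memAbs_iff h1

theorem moves_of_check (hlink : g.Linked) {dl : List ℕ} (h : movesOK D dl = true)
    (hpow : ∀ d ∈ dl, ∃ c : Fˣ, c ^ d ≠ 1) : ∀ r < D.nroots, Moves S r := by
  intro r hr
  obtain ⟨j, hj, h'⟩ := exists_of_anyR _ _ (allR_upto h hr)
  obtain ⟨c, hc⟩ := hpow _ (memAbs_iff h')
  refine moves_of_cwt S hlink hr (Pi.single ⟨j, lt_of_mem_upto hj⟩ 1) c ?_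
  have : cwt D (Pi.single (⟨j, lt_of_mem_upto hj⟩ : Fin D.rank) 1) r = fcartan D j r := by
    rw [cwt, Finset.sum_eq_single (⟨j, lt_of_mem_upto hj⟩ : Fin D.rank)
      (fun k _ hk => by rw [Pi.single_eq_of_ne hk, zero_mul]) (by simp), Pi.single_eq_same, one_mul]
    exact cartan_eq g.lie.pack (lt_of_mem_upto hj) hr
  rw [this]
  exact pow_ne_of_natAbs hc

theorem coeff_zero_of_commB {p r s : ℕ} (g : Good D) (hr : r < D.nroots) (hs : s < D.nroots)
    (hp : p = 0 ∨ (p : F) = 0) (h : commB D p r s = true) :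
    ∀ c ∈ D.commTerms r s, (c.2.1 : F) = 0 := by
  intro c hc
  rw [← g.fterms_eq hr hs] at hc
  have h' := allR_true h hc
  simp only [Bool.and_eq_true, Int.beq'_eq, Nat.blt_eq] at h'
  obtain ⟨q, hq⟩ := Int.dvd_of_emod_eq_zero h'.1
  rcases hp with rfl | hp
  · exact absurd h'.2 (lt_irrefl 0)
  · rw [hq, Int.cast_mul, Int.cast_natCast, hp, zero_mul]

variable (hπ : IsCentralSurj π)
include hπ

theorem pairOK_of_sepB (hlink : g.Linked) {dl : List ℕ} {m s : ℕ} (hm : m < D.nroots)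
    (hs : s < D.nroots) (h : sepB D dl m s = true) (hpow : ∀ d ∈ dl, ∃ c : Fˣ, c ^ d ≠ 1) :
    PairOK S hπ m s := by
  obtain ⟨A, h0, h1⟩ := exists_cochar g hm hs h
  obtain ⟨c, hc⟩ := hpow _ h1
  exact pairOK_of_cwt S hπ hlink hm hs A c h0 (pow_ne_of_natAbs hc)

theorem cpair_of_sepB (hlink : g.Linked) {dl : List ℕ} {m s : ℕ} (hm : m < D.nroots)
    (hs : s < D.nroots) (hcomm : ∀ t u, S.y m t * S.y s u = S.y s u * S.y m t)
    (h : sepB D dl m s = true) (hpow : ∀ d ∈ dl, ∃ c : Fˣ, c ^ d ≠ 1) (t u : F) :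
    cpair hπ (S.y m t) (S.y s u) = 1 := by
  obtain ⟨A, h0, h1⟩ := exists_cochar g hm hs h
  obtain ⟨c, hc⟩ := hpow _ h1
  exact cpair_eq_one_of_cwt S hπ hlink hm hs hcomm A c h0 (pow_ne_of_natAbs hc) t u

theorem pairs_of_check (hlink : g.Linked) {dl : List ℕ} {ex : ℕ → ℕ → Bool}
    (h : pairsOK D dl ex = true) (hpow : ∀ d ∈ dl, ∃ c : Fˣ, c ^ d ≠ 1)
    (hex : ∀ m s, m < D.nroots → s < D.nroots → half D ≤ m → m < s → ex m s = true →
      PairOK S hπ m s) :
    ∀ m s, half D ≤ m → m < s → s < D.nroots → PairOK S hπ m s := by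
  intro m s hm hms hs
  have h' := allR_upto (allR_upto h (hms.trans hs)) hs
  simp only [Bool.or_eq_true, Nat.blt_eq, Nat.ble_eq] at h'
  rcases h' with ((h' | h') | h') | h'
  · omega
  · omega
  · exact pairOK_of_sepB S hπ hlink (hms.trans hs) hs h' hpow
  · exact hex m s (hms.trans hs) hs hm hms h'

/-- Commuting lifts of a fundamental root subgroup with a cartan integer `±1`. -/
theorem cpair_self_of_unitB (hlink : g.Linked) {i : ℕ} (hi : i < D.rank) (h : unitB D i = true)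
    (hF : ∃ a : F, a ≠ 0 ∧ a ≠ 1 ∧ a * (1 - a) ≠ 1) (t u : F) :
    cpair hπ (S.y (D.simple i) t) (S.y (D.simple i) u) = 1 := by
  obtain ⟨j, hj, h'⟩ := exists_of_anyR _ _ h
  have hr := g.simple_lt hi
  set z := fcartan D j (D.simple i) with hz
  refine cpair_self_eq_one S hπ hlink hr (Pi.single ⟨j, lt_of_mem_upto hj⟩ z) ?_ hF t u
  rw [cwt, Finset.sum_eq_single (⟨j, lt_of_mem_upto hj⟩ : Fin D.rank)
    (fun k _ hk => by rw [Pi.single_eq_of_ne hk, zero_mul]) (by simp), Pi.single_eq_same]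
  show z * D.cartan j (D.simple i) = 1
  rw [cartan_eq g.lie.pack (lt_of_mem_upto hj) hr, ← hz]
  simp only [memAbs, anyR, Bool.or_eq_true, Int.beq'_eq, Bool.or_false, Nat.cast_one] at h'
  rcases h' with e | e <;> rw [e] <;> norm_num

/-- Commuting lifts from a Hall–Witt witness. -/
theorem cpair_self_of_hwB (hlink : g.Linked) {p : ℕ} {dl : List ℕ} {r : ℕ} {w : ℕ × ℕ}
    (hr : r < D.nroots) (h : hwB D p dl r w = true) (hp : p = 0 ∨ (p : F) = 0)
    (hpow : ∀ d ∈ dl, ∃ c : Fˣ, c ^ d ≠ 1) (t u : F) :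
    cpair hπ (S.y r t) (S.y r u) = 1 := by
  simp only [hwB, Bool.and_eq_true, Bool.not_eq_true', ← Bool.not_eq_true, Nat.beq_eq,
    Nat.blt_eq] at h
  obtain ⟨⟨⟨⟨⟨⟨⟨⟨⟨⟨⟨⟨ha, hb⟩, hba⟩, hbna⟩, har⟩, harn⟩, hbr⟩, hbrn⟩, hca⟩, hcb⟩, hocc⟩, hall⟩,
    hcnt⟩ := h
  have hfa : D.neg w.1 = fneg D w.1 := neg_eq g.lie.pack ha
  have hfr : D.neg r = fneg D r := neg_eq g.lie.pack hr
  obtain ⟨⟨k, C, i, j⟩, hmem, hk⟩ := exists_of_anyR _ _ hocc
  simp only [Bool.and_eq_true, Bool.or_eq_true, Nat.beq_eq, Int.beq'_eq] at hk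
  obtain ⟨⟨hkr, hC⟩, hij⟩ := hk
  subst hkr
  obtain ⟨L₁, L₂, hL⟩ := List.append_of_mem hmem
  have hL' : D.commTerms w.1 w.2 = L₁ ++ (k, C, i, j) :: L₂ := by rw [← g.fterms_eq ha hb, hL]
  have hC' : (C : F) ≠ 0 := by rcases hC with rfl | rfl <;> simp
  refine cpair_eq_one_of_comm hπ S hr ha hb hba (hfa ▸ hbna)
    (comm_of_coeff_zero hπ S hr ha har (hfr ▸ harn) (coeff_zero_of_commB g hr ha hp hca))
    (comm_of_coeff_zero hπ S hr hb hbr (hfr ▸ hbrn) (coeff_zero_of_commB g hr hb hp hcb))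
    hL' hC' hij (fun c hc t v => ?_) t u
  have hcm : c ∈ fterms D w.1 w.2 := by
    rw [hL]; rcases List.mem_append.1 hc with h' | h' <;> simp [h']
  have hck : c.1 ≠ k := by
    intro he
    rw [hL] at hcnt
    have hs : ∀ (l₁ l₂ : List (ℕ × ℤ × ℕ × ℕ)) (f : ℕ × ℤ × ℕ × ℕ → ℕ),
        hwB.natSum f (l₁ ++ l₂) = hwB.natSum f l₁ + hwB.natSum f l₂ := by
      intro l₁ l₂ f
      induction l₁ with
      | nil => simp [hwB.natSum]
      | cons x l₁ ih =>
        show f x + hwB.natSum f (l₁ ++ l₂) = f x + hwB.natSum f l₁ + _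
        rw [ih]; ring
    have hpos : ∀ (l : List (ℕ × ℤ × ℕ × ℕ)), c ∈ l →
        1 ≤ hwB.natSum (fun c => if c.1 = k then 1 else 0) l := by
      intro l hl
      obtain ⟨a1, a2, rfl⟩ := List.append_of_mem hl
      rw [hs]
      show 1 ≤ _ + ((if c.1 = k then 1 else 0) + _)
      rw [if_pos he]
      omega
    rw [hs, show hwB.natSum (fun c => if c.1 = k then 1 else 0) ((k, C, i, j) :: L₂) =
      1 + hwB.natSum (fun c => if c.1 = k then 1 else 0) L₂ by
        show (if k = k then 1 else 0) + hwB.natSum _ L₂ = _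
        rw [if_pos rfl]] at hcnt
    rcases List.mem_append.1 hc with h' | h'
    · have := hpos L₁ h'; omega
    · have := hpos L₂ h'; omega
  have hlt : c.1 < D.nroots := g.fterms_lt ha hb c hcm
  have h' := allR_true hall hcm
  simp only [Bool.or_eq_true, Bool.and_eq_true, Bool.not_eq_true', ← Bool.not_eq_true,
    Nat.beq_eq] at h'
  obtain ⟨⟨hcn, hcc⟩, hsep⟩ := h'.resolve_left hck
  exact cpair_of_sepB S hπ hlink hr hlt
    (comm_of_coeff_zero hπ S hr hlt hck (hfr ▸ hcn) (coeff_zero_of_commB g hr hlt hp hcc))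
    hsep hpow t v

/-- From the fundamental roots to all roots. -/
theorem cpair_self_all (hlink : g.Linked)
    (h : ∀ i < D.rank, ∀ t u, cpair hπ (S.y (D.simple i) t) (S.y (D.simple i) u) = 1) :
    ∀ r < D.nroots, ∀ t u, cpair hπ (S.y r t) (S.y r u) = 1 := by
  intro r hr
  have key : r < D.nroots ∧ ∀ t u, cpair hπ (S.y r t) (S.y r u) = 1 := by
    refine g.root_induction (P := fun r => r < D.nroots ∧ ∀ t u,
      cpair hπ (S.y r t) (S.y r u) = 1)
      (fun i hi => ⟨g.simple_lt hi, h i hi⟩)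
      (fun i hi s hs hP => ⟨g.refl_lt hi hs, fun t u => ?_⟩) hr
    obtain ⟨c, hc⟩ := S.conj_nY hlink ⟨i, hi⟩ 1 ⟨s, hs⟩
    obtain ⟨e, he⟩ := hπ.surj (S.nY (D.simple i) 1)
    have h1 := conj_cpair hπ e (S.y s (((c⁻¹ : Fˣ) : F) * t)) (S.y s (((c⁻¹ : Fˣ) : F) * u))
    rw [hP.2, mul_one, mul_inv_cancel, he, hc, hc, ← mul_assoc, ← mul_assoc, Units.mul_inv,
      one_mul, one_mul] at h1
    exact h1.symm
  exact key.2

end CfsgLib.KnownA.CExt
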