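import Cfsg.Agent.Lib.KnownA.CExt.Pair
import Cfsg.Agent.Lib.Chev.StInst
import Cfsg.Agent.Lib.Chev.StWords

/-!
Central extensions of groups with Steinberg's relations: equivariant lifts of the root elements
satisfy Steinberg's relations again, as soon as every pair of positive roots is either separated by
the torus or has commuting lifts.
-/

set_option autoImplicit false
set_option linter.unusedSectionVars false

namespace CfsgLib.KnownA.CExt

open Cfsg.Lie CfsgLib.Chev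
open scoped commutatorElement

variable {D : ChevalleyDatum} {F : Type*} [Field F] {g : Good D} {X : Type*} [Group X]
  (S : StData g F X) {E : Type*} [Group E] {π : E →* X}

/-- Lifts of the root elements, equivariant under the torus and the fundamental reflections. -/
structure LiftData (π : E →* X) where
  L : ℕ → F → E
  map : ∀ r < D.nroots, ∀ t, π (L r t) = S.y r t
  add : ∀ r < D.nroots, ∀ s t, L r s * L r t = L r (s + t)
  scale : ∀ r < D.nroots, ∀ (e : E) (c : F), π e ∈ S.HY →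
    (∀ t, π e * S.y r t * (π e)⁻¹ = S.y r (c * t)) → ∀ t, e * L r t * e⁻¹ = L r (c * t)
  conj : ∀ (e : E) (i : Fin D.rank) (s : Fin D.nroots), π e = S.nI i → ∀ t,
    e * L s t * e⁻¹ = L (g.rperm i s : ℕ) ((g.eta i s : F) * t)

variable {S}

/-- The kernel has no element of order the characteristic. -/
def PFree (F : Type*) [Field F] (π : E →* X) : Prop :=
  ∃ p : ℕ, (p : F) = 0 ∧ ∀ z ∈ π.ker, z ^ p = 1 → z = 1

/-- The torus separates `m` from `s`, or the lifts commute. -/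
def PairOK (S : StData g F X) (hπ : IsCentralSurj π) (m s : ℕ) : Prop :=
  (∃ h ∈ S.HY, ∃ c : F, c ≠ 1 ∧ (∀ t, h * S.y m t * h⁻¹ = S.y m (c * t)) ∧
    ∀ u, h * S.y s u * h⁻¹ = S.y s u) ∨
  (D.commTerms m s = [] ∧ ∀ t u, cpair hπ (S.y m t) (S.y s u) = 1)

namespace LiftData

variable (Λ : LiftData S π) (hπ : IsCentralSurj π)

theorem zero {r : ℕ} (hr : r < D.nroots) : Λ.L r 0 = 1 := by
  have := Λ.add r hr 0 0
  rw [add_zero] at this
  exact mul_eq_left.1 this

theorem inv_eq {r : ℕ} (hr : r < D.nroots) (t : F) : (Λ.L r t)⁻¹ = Λ.L r (-t) :=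
  inv_eq_of_mul_eq_one_right (by rw [Λ.add r hr, add_neg_cancel, Λ.zero hr])

/-- The subgroup generated by the lifts of a set of roots. -/
def gen (A : Set ℕ) : Subgroup E :=
  Subgroup.closure {z | ∃ r ∈ A, r < D.nroots ∧ ∃ t, z = Λ.L r t}

theorem mem_gen {A : Set ℕ} {r : ℕ} (hA : r ∈ A) (hr : r < D.nroots) (t : F) :
    Λ.L r t ∈ Λ.gen A :=
  Subgroup.subset_closure ⟨r, hA, hr, t, rfl⟩

theorem gen_le {A : Set ℕ} {K : Subgroup E} (h : ∀ r ∈ A, r < D.nroots → ∀ t, Λ.L r t ∈ K) :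
    Λ.gen A ≤ K := by
  refine (Subgroup.closure_le _).2 ?_
  rintro z ⟨r, hA, hr, t, rfl⟩
  exact h r hA hr t

theorem gen_mono {A B : Set ℕ} (h : ∀ r ∈ A, r < D.nroots → r ∈ B) : Λ.gen A ≤ Λ.gen B :=
  Λ.gen_le fun r hA hr t => Λ.mem_gen (h r hA hr) hr t

theorem θ_gen {A : Set ℕ} {z : E} (hz : z ∈ Λ.gen A) : S.θ (π z) ∈ rootGen D F A := by
  refine (Λ.gen_le (K := ((rootGen D F A).comap S.θ).comap π) fun r hA hr t => ?_) hz
  show S.θ (π (Λ.L r t)) ∈ rootGen D F A
  rw [Λ.map r hr, S.θy r hr]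
  exact g.mem_rootGen hr hA t

/-- The kernel of `π` meets the subgroup trivially. -/
def Inj (A : Set ℕ) : Prop := ∀ z ∈ Λ.gen A, π z = 1 → z = 1

theorem Inj.eq {A : Set ℕ} (h : Λ.Inj A) {a b : E} (ha : a ∈ Λ.gen A) (hb : b ∈ Λ.gen A)
    (hab : π a = π b) : a = b := by
  refine inv_mul_eq_one.1 (h _ (mul_mem (inv_mem ha) hb) ?_)
  rw [map_mul, map_inv, hab, inv_mul_cancel]

/-- The commutator of two lifts. -/
def commE (r s : ℕ) (t u : F) : E := (Λ.L s u)⁻¹ * (Λ.L r t)⁻¹ * Λ.L s u * Λ.L r t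

/-- The lifted right-hand side of (R2). -/
noncomputable def prodE (r s : ℕ) (t u : F) : E :=
  ((D.commWord F r s t u).map fun p => Λ.L p.1 p.2).prod

theorem word_lt (S : StData g F X) {r s : ℕ} (hr : r < D.nroots) (hs : s < D.nroots) {t u : F} {p : ℕ × F}
    (hp : p ∈ D.commWord F r s t u) : p.1 < D.nroots := g.commWord_lt S.hc hr hs t u p hp

theorem map_commE {r s : ℕ} (hr : r < D.nroots) (hs : s < D.nroots) (hsr : s ≠ r)
    (hneg : s ≠ D.neg r) (t u : F) : π (Λ.commE r s t u) = π (Λ.prodE r s t u) := by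
  rw [commE, map_mul, map_mul, map_mul, map_inv, map_inv, Λ.map r hr, Λ.map s hs,
    S.comm r s hr hs hsr hneg, prodE, map_list_prod, List.map_map]
  exact congrArg List.prod (List.map_congr_left fun p hp =>
    (Λ.map _ (word_lt S hr hs hp) _).symm)

/-- The terms of the commutator formula for two positive roots come later. -/
theorem word_above (S : StData g F X) {r s : ℕ} (hr : r < D.nroots) (hs : s < D.nroots) (hrp : half D ≤ r)
    (hsp : half D ≤ s) {t u : F} {p : ℕ × F} (hp : p ∈ D.commWord F r s t u) :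
    r < p.1 ∧ s < p.1 := by
  obtain ⟨c, hc', rfl⟩ := List.mem_map.1 hp
  obtain ⟨-, h2, h3, h4⟩ := g.commTerms_co S.hc hr hs c hc'
  have e := g.wt_lin h4
  have h2' : (1 : ℤ) ≤ c.2.2.1 := by exact_mod_cast h2
  have h3' : (1 : ℤ) ≤ c.2.2.2 := by exact_mod_cast h3
  have := g.wt_pos hrp hr
  have := g.wt_pos hsp hs
  exact ⟨g.lt_of_wt_lt hr (by rw [e]; nlinarith), g.lt_of_wt_lt hs (by rw [e]; nlinarith)⟩

theorem prodE_mem {r s : ℕ} (hr : r < D.nroots) (hs : s < D.nroots) (hrp : half D ≤ r)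
    (hsp : half D ≤ s) (t u : F) : Λ.prodE r s t u ∈ Λ.gen (Set.Ici (max r s + 1)) := by
  refine Subgroup.list_prod_mem _ fun x hx => ?_
  obtain ⟨p, hp, rfl⟩ := List.mem_map.1 hx
  obtain ⟨h1, h2⟩ := word_above S hr hs hrp hsp hp
  exact Λ.mem_gen (Set.mem_Ici.2 (by omega)) (word_lt S hr hs hp) _

/-- (R2) for a pair of roots. -/
def Rel (r s : ℕ) : Prop := ∀ t u, Λ.commE r s t u = Λ.prodE r s t u

/-- Conjugation of a later lift by an earlier one, given (R2). -/
theorem conj_mem_of_rel {m k : ℕ} (hm : half D ≤ m) (hm' : m < D.nroots) (hmk : m < k)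
    (hk : k < D.nroots) (hrel : Λ.Rel m k) (t v : F) :
    (Λ.L m t)⁻¹ * Λ.L k v * Λ.L m t ∈ Λ.gen (Set.Ici (m + 1)) := by
  have e : (Λ.L m t)⁻¹ * Λ.L k v * Λ.L m t = Λ.L k v * Λ.commE m k t v := by
    rw [commE]; group
  rw [e, hrel]
  exact mul_mem (Λ.mem_gen (Set.mem_Ici.2 hmk) hk v) (Λ.gen_mono
    (fun x hx _ => by simp only [Set.mem_Ici] at hx ⊢; omega)
    (Λ.prodE_mem hm' hk hm (hm.trans hmk.le) t v))

include hπ in
/-- The inductive step: (R2) for `(m, s)`. -/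
theorem rel_step (hlink : g.Linked) {m s : ℕ} (hm : half D ≤ m) (hms : m < s)
    (hs : s < D.nroots) (hinj : Λ.Inj (Set.Ici (m + 1)))
    (hlater : ∀ k, s < k → k < D.nroots → Λ.Rel m k) (hpair : PairOK S hπ m s ∨ PFree F π) :
    Λ.Rel m s := by
  have hm' : m < D.nroots := hms.trans hs
  have hsp : half D ≤ s := hm.trans hms.le
  have hneg : s ≠ D.neg m := by
    intro h
    have := (g.neg_neg_iff hm').2 hm
    omega
  rcases (show (∃ h ∈ S.HY, ∃ c : F, c ≠ 1 ∧ (∀ t, h * S.y m t * h⁻¹ = S.y m (c * t)) ∧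
      ∀ u, h * S.y s u * h⁻¹ = S.y s u) ∨ PFree F π ∨
      (D.commTerms m s = [] ∧ ∀ t u, cpair hπ (S.y m t) (S.y s u) = 1) by
    rcases hpair with (h | h) | h
    exacts [Or.inl h, Or.inr (Or.inr h), Or.inr (Or.inl h)]).imp id id |> or_assoc.mpr with
    hsf | ⟨hnil, hcomm⟩
  swap
  · intro t u
    have h1 := lift_comm hπ (hcomm t u) (Λ.map m hm' t) (Λ.map s hs u)
    rw [prodE, ChevalleyDatum.commWord, hnil, List.map_nil, List.map_nil, List.prod_nil, commE,
      mul_assoc, ← h1]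
    group
  intro t u
  set f : F → E := fun t => (Λ.prodE m s t u)⁻¹ * Λ.commE m s t u with hf
  have hfker : ∀ t, f t ∈ π.ker := fun t => by
    rw [MonoidHom.mem_ker, hf]
    simp only [map_mul, map_inv, Λ.map_commE hm' hs hms.ne' hneg, inv_mul_cancel]
  have hce : ∀ t, Λ.commE m s t u = Λ.prodE m s t u * f t := fun t => by
    simp only [hf, mul_inv_cancel_left]
  have hmem : ∀ t, Λ.prodE m s t u ∈ Λ.gen (Set.Ici (m + 1)) := fun t => Λ.gen_mono
    (fun x hx _ => by simp only [Set.mem_Ici] at hx ⊢; omega)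
    (Λ.prodE_mem hm' hs hm hsp t u)
  have hconj : ∀ a b, (Λ.L m b)⁻¹ * Λ.prodE m s a u * Λ.L m b ∈ Λ.gen (Set.Ici (m + 1)) := by
    intro a b
    have hle : Λ.gen (Set.Ici (s + 1)) ≤
        (Λ.gen (Set.Ici (m + 1))).comap (MulAut.conj (Λ.L m b)⁻¹).toMonoidHom :=
      Λ.gen_le fun k hk hk' v => by
        show (Λ.L m b)⁻¹ * Λ.L k v * (Λ.L m b)⁻¹⁻¹ ∈ Λ.gen (Set.Ici (m + 1))
        rw [inv_inv]
        exact Λ.conj_mem_of_rel hm hm' (by simp only [Set.mem_Ici] at hk; omega) hk'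
          (hlater k (by simp only [Set.mem_Ici] at hk; omega) hk') b v
    have h1 := hle (Λ.gen_mono (fun x hx _ => by simp only [Set.mem_Ici] at hx ⊢; omega)
      (Λ.prodE_mem hm' hs hm hsp a u))
    have h2 : (Λ.L m b)⁻¹ * Λ.prodE m s a u * (Λ.L m b)⁻¹⁻¹ ∈ Λ.gen (Set.Ici (m + 1)) := h1
    rwa [inv_inv] at h2
  -- `f` is additive
  have hadd : ∀ a b, f (a + b) = f b * f a := by
    intro a b
    have e1 : Λ.commE m s (a + b) u =
        Λ.commE m s b u * ((Λ.L m b)⁻¹ * Λ.commE m s a u * Λ.L m b) := by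
      rw [commE, commE, commE, ← Λ.add m hm' a b]
      group
    have e2 : Λ.commE m s (a + b) u =
        Λ.prodE m s b u * ((Λ.L m b)⁻¹ * Λ.prodE m s a u * Λ.L m b) * (f b * f a) := by
      rw [e1, hce b, hce a]
      have ha := hπ.comm (hfker a)
      have hb := hπ.comm (hfker b)
      calc Λ.prodE m s b u * f b * ((Λ.L m b)⁻¹ * (Λ.prodE m s a u * f a) * Λ.L m b)
          = Λ.prodE m s b u * f b * ((Λ.L m b)⁻¹ * Λ.prodE m s a u * (f a * Λ.L m b)) := by group
        _ = Λ.prodE m s b u * f b * ((Λ.L m b)⁻¹ * Λ.prodE m s a u * (Λ.L m b * f a)) := by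
            rw [← ha]
        _ = Λ.prodE m s b u * (f b * ((Λ.L m b)⁻¹ * Λ.prodE m s a u * Λ.L m b)) * f a := by group
        _ = Λ.prodE m s b u * ((Λ.L m b)⁻¹ * Λ.prodE m s a u * Λ.L m b * f b) * f a := by
            rw [← hb]
        _ = _ := by group
    have e3 : Λ.prodE m s (a + b) u =
        Λ.prodE m s b u * ((Λ.L m b)⁻¹ * Λ.prodE m s a u * Λ.L m b) := by
      refine Inj.eq Λ hinj (hmem _) (mul_mem (hmem b) (hconj a b)) ?_
      rw [← Λ.map_commE hm' hs hms.ne' hneg, e2, map_mul, map_mul π (f b) (f a),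
        MonoidHom.mem_ker.1 (hfker b), MonoidHom.mem_ker.1 (hfker a), one_mul, mul_one]
    rw [hce (a + b), e3] at e2
    exact mul_left_cancel e2
  rcases hsf with ⟨h, hh, d, hd, hhm, hhs⟩ | ⟨p, hp0, hp⟩
  swap
  · -- `f` is additive, its values have order `p`
    have hf0 : f 0 = 1 := by
      have h1 := hadd 0 0
      rw [add_zero] at h1
      exact mul_eq_left.1 h1.symm
    have hpow : ∀ n : ℕ, f ((n : F) * t) = f t ^ n := by
      intro n
      induction n with
      | zero => rw [Nat.cast_zero, zero_mul, hf0, pow_zero]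
      | succ n ih => rw [Nat.cast_succ, add_mul, one_mul, hadd, ih, pow_succ']
    have h1 := hpow p
    rw [hp0, zero_mul, hf0] at h1
    rw [hce t, hp _ (hfker t) h1.symm, mul_one]
  -- `f` is invariant
  obtain ⟨e, he⟩ := hπ.surj h
  have hscale : ∀ k (hk : k < D.nroots), ∃ c : F, ∀ v, e * Λ.L k v * e⁻¹ = Λ.L k (c * v) := by
    intro k hk
    obtain ⟨c, hc⟩ := S.HY_scale hlink hh ⟨k, hk⟩
    exact ⟨c, Λ.scale k hk e c (he ▸ hh) (fun v => by rw [he]; exact hc v)⟩
  have hinv : ∀ a, f (d * a) = f a := by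
    intro a
    have hLm := Λ.scale m hm' e d (he ▸ hh) (fun v => by rw [he]; exact hhm v)
    have hLs : e * Λ.L s u * e⁻¹ = Λ.L s u := by
      have := Λ.scale s hs e 1 (he ▸ hh) (fun v => by rw [he, one_mul]; exact hhs v) u
      rwa [one_mul] at this
    have e1 : e * Λ.commE m s a u * e⁻¹ = Λ.commE m s (d * a) u := by
      rw [commE, commE, ← hLm a]
      calc e * ((Λ.L s u)⁻¹ * (Λ.L m a)⁻¹ * Λ.L s u * Λ.L m a) * e⁻¹
          = (e * Λ.L s u * e⁻¹)⁻¹ * (e * Λ.L m a * e⁻¹)⁻¹ * (e * Λ.L s u * e⁻¹) *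
              (e * Λ.L m a * e⁻¹) := by group
        _ = _ := by rw [hLs]
    have hmem' : e * Λ.prodE m s a u * e⁻¹ ∈ Λ.gen (Set.Ici (m + 1)) := by
      have hle : Λ.gen (Set.Ici (m + 1)) ≤
          (Λ.gen (Set.Ici (m + 1))).comap (MulAut.conj e).toMonoidHom :=
        Λ.gen_le fun k hk hk' v => by
          obtain ⟨c, hc⟩ := hscale k hk'
          show e * Λ.L k v * e⁻¹ ∈ Λ.gen (Set.Ici (m + 1))
          rw [hc]
          exact Λ.mem_gen hk hk' _
      exact hle (hmem a)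
    have e2 : Λ.commE m s (d * a) u = e * Λ.prodE m s a u * e⁻¹ * f a := by
      rw [← e1, hce a, show e * (Λ.prodE m s a u * f a) * e⁻¹ =
        e * Λ.prodE m s a u * e⁻¹ * (e * f a * e⁻¹) by group, hπ.conj_ker (hfker a)]
    have e3 : Λ.prodE m s (d * a) u = e * Λ.prodE m s a u * e⁻¹ := by
      refine Inj.eq Λ hinj (hmem _) hmem' ?_
      rw [← Λ.map_commE hm' hs hms.ne' hneg, e2, map_mul, MonoidHom.mem_ker.1 (hfker a), mul_one]
    rw [hce (d * a), e3] at e2
    exact mul_left_cancel e2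
  have h0 : ∀ a, f ((d - 1) * a) = 1 := by
    intro a
    have h1 := hadd ((d - 1) * a) a
    rw [show (d - 1) * a + a = d * a by ring, hinv a] at h1
    exact mul_eq_left.1 h1.symm
  have h1 := h0 (t / (d - 1))
  rw [mul_div_cancel₀ t (sub_ne_zero.2 hd)] at h1
  rw [hce t, h1, mul_one]

include hπ in
/-- The inductive step with the torus moving the later root. -/
theorem rel_step_right (hlink : g.Linked) {m s : ℕ} (hm : half D ≤ m) (hms : m < s)
    (hs : s < D.nroots) (hinj : Λ.Inj (Set.Ici (m + 1)))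
    (habove : ∀ k, s < k → k < D.nroots → Λ.Rel s k)
    (hsep : ∃ h ∈ S.HY, ∃ c : F, c ≠ 1 ∧ (∀ u, h * S.y s u * h⁻¹ = S.y s (c * u)) ∧
      ∀ t, h * S.y m t * h⁻¹ = S.y m t) : Λ.Rel m s := by
  obtain ⟨h, hh, d, hd, hhs, hhm⟩ := hsep
  have hm' : m < D.nroots := hms.trans hs
  have hsp : half D ≤ s := hm.trans hms.le
  have hneg : s ≠ D.neg m := by
    intro h
    have := (g.neg_neg_iff hm').2 hm
    omega
  intro t u
  set f : F → E := fun u => (Λ.prodE m s t u)⁻¹ * Λ.commE m s t u with hf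
  have hfker : ∀ u, f u ∈ π.ker := fun u => by
    rw [MonoidHom.mem_ker, hf]
    simp only [map_mul, map_inv, Λ.map_commE hm' hs hms.ne' hneg, inv_mul_cancel]
  have hce : ∀ u, Λ.commE m s t u = Λ.prodE m s t u * f u := fun u => by
    simp only [hf, mul_inv_cancel_left]
  have hmem : ∀ u, Λ.prodE m s t u ∈ Λ.gen (Set.Ici (m + 1)) := fun u => Λ.gen_mono
    (fun x hx _ => by simp only [Set.mem_Ici] at hx ⊢; omega)
    (Λ.prodE_mem hm' hs hm hsp t u)
  have hconj : ∀ a b, (Λ.L s b)⁻¹ * Λ.prodE m s t a * Λ.L s b ∈ Λ.gen (Set.Ici (m + 1)) := by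
    intro a b
    have hle : Λ.gen (Set.Ici (s + 1)) ≤
        (Λ.gen (Set.Ici (m + 1))).comap (MulAut.conj (Λ.L s b)⁻¹).toMonoidHom :=
      Λ.gen_le fun k hk hk' v => by
        show (Λ.L s b)⁻¹ * Λ.L k v * (Λ.L s b)⁻¹⁻¹ ∈ Λ.gen (Set.Ici (m + 1))
        rw [inv_inv]
        refine Λ.gen_mono (fun x hx _ => by simp only [Set.mem_Ici] at hx ⊢; omega)
          (Λ.conj_mem_of_rel hsp hs (by simp only [Set.mem_Ici] at hk; omega) hk'
            (habove k (by simp only [Set.mem_Ici] at hk; omega) hk') b v)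
    have h1 := hle (Λ.gen_mono (fun x hx _ => by simp only [Set.mem_Ici] at hx ⊢; omega)
      (Λ.prodE_mem hm' hs hm hsp t a))
    have h2 : (Λ.L s b)⁻¹ * Λ.prodE m s t a * (Λ.L s b)⁻¹⁻¹ ∈ Λ.gen (Set.Ici (m + 1)) := h1
    rwa [inv_inv] at h2
  have hadd : ∀ a b, f (a + b) = f a * f b := by
    intro a b
    have e1 : Λ.commE m s t (a + b) =
        (Λ.L s b)⁻¹ * Λ.commE m s t a * Λ.L s b * Λ.commE m s t b := by
      rw [commE, commE, commE, ← Λ.add s hs a b]
      group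
    have e2 : Λ.commE m s t (a + b) =
        (Λ.L s b)⁻¹ * Λ.prodE m s t a * Λ.L s b * Λ.prodE m s t b * (f a * f b) := by
      rw [e1, hce a, hce b]
      have ha := hπ.comm (hfker a)
      calc (Λ.L s b)⁻¹ * (Λ.prodE m s t a * f a) * Λ.L s b * (Λ.prodE m s t b * f b)
          = (Λ.L s b)⁻¹ * Λ.prodE m s t a * (f a * (Λ.L s b * Λ.prodE m s t b)) * f b := by group
        _ = (Λ.L s b)⁻¹ * Λ.prodE m s t a * (Λ.L s b * Λ.prodE m s t b * f a) * f b := by
            rw [← ha]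
        _ = _ := by group
    have e3 : Λ.prodE m s t (a + b) =
        (Λ.L s b)⁻¹ * Λ.prodE m s t a * Λ.L s b * Λ.prodE m s t b := by
      refine Inj.eq Λ hinj (hmem _) (mul_mem (hconj a b) (hmem b)) ?_
      rw [← Λ.map_commE hm' hs hms.ne' hneg, e2, map_mul, map_mul π (f a) (f b),
        MonoidHom.mem_ker.1 (hfker a), MonoidHom.mem_ker.1 (hfker b), one_mul, mul_one]
    rw [hce (a + b), e3] at e2
    exact mul_left_cancel e2
  obtain ⟨e, he⟩ := hπ.surj h
  have hscale : ∀ k (hk : k < D.nroots), ∃ c : F, ∀ v, e * Λ.L k v * e⁻¹ = Λ.L k (c * v) := by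
    intro k hk
    obtain ⟨c, hc⟩ := S.HY_scale hlink hh ⟨k, hk⟩
    exact ⟨c, Λ.scale k hk e c (he ▸ hh) (fun v => by rw [he]; exact hc v)⟩
  have hinv : ∀ a, f (d * a) = f a := by
    intro a
    have hLs := Λ.scale s hs e d (he ▸ hh) (fun v => by rw [he]; exact hhs v)
    have hLm : e * Λ.L m t * e⁻¹ = Λ.L m t := by
      have := Λ.scale m hm' e 1 (he ▸ hh) (fun v => by rw [he, one_mul]; exact hhm v) t
      rwa [one_mul] at this
    have e1 : e * Λ.commE m s t a * e⁻¹ = Λ.commE m s t (d * a) := by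
      rw [commE, commE, ← hLs a]
      calc e * ((Λ.L s a)⁻¹ * (Λ.L m t)⁻¹ * Λ.L s a * Λ.L m t) * e⁻¹
          = (e * Λ.L s a * e⁻¹)⁻¹ * (e * Λ.L m t * e⁻¹)⁻¹ * (e * Λ.L s a * e⁻¹) *
              (e * Λ.L m t * e⁻¹) := by group
        _ = _ := by rw [hLm]
    have hmem' : e * Λ.prodE m s t a * e⁻¹ ∈ Λ.gen (Set.Ici (m + 1)) := by
      have hle : Λ.gen (Set.Ici (m + 1)) ≤
          (Λ.gen (Set.Ici (m + 1))).comap (MulAut.conj e).toMonoidHom :=
        Λ.gen_le fun k hk hk' v => by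
          obtain ⟨c, hc⟩ := hscale k hk'
          show e * Λ.L k v * e⁻¹ ∈ Λ.gen (Set.Ici (m + 1))
          rw [hc]
          exact Λ.mem_gen hk hk' _
      exact hle (hmem a)
    have e2 : Λ.commE m s t (d * a) = e * Λ.prodE m s t a * e⁻¹ * f a := by
      rw [← e1, hce a, show e * (Λ.prodE m s t a * f a) * e⁻¹ =
        e * Λ.prodE m s t a * e⁻¹ * (e * f a * e⁻¹) by group, hπ.conj_ker (hfker a)]
    have e3 : Λ.prodE m s t (d * a) = e * Λ.prodE m s t a * e⁻¹ := by
      refine Inj.eq Λ hinj (hmem _) hmem' ?_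
      rw [← Λ.map_commE hm' hs hms.ne' hneg, e2, map_mul, MonoidHom.mem_ker.1 (hfker a), mul_one]
    rw [hce (d * a), e3] at e2
    exact mul_left_cancel e2
  have h1 := hadd ((d - 1) * (u / (d - 1))) (u / (d - 1))
  rw [show (d - 1) * (u / (d - 1)) + u / (d - 1) = d * (u / (d - 1)) by ring,
    hinv] at h1
  have h2 := mul_eq_right.1 h1.symm
  rw [mul_div_cancel₀ u (sub_ne_zero.2 hd)] at h2
  rw [hce u, h2, mul_one]

/-- Any of the ways to get (R2) for a positive pair. -/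
def PairOK' (hπ : IsCentralSurj π) (m s : ℕ) : Prop :=
  PairOK S hπ m s ∨
  (∃ h ∈ S.HY, ∃ c : F, c ≠ 1 ∧ (∀ u, h * S.y s u * h⁻¹ = S.y s (c * u)) ∧
    ∀ t, h * S.y m t * h⁻¹ = S.y m t) ∨
  Λ.Rel m s ∨ PFree F π

include hπ in
/-- All relations above `m`. -/
theorem inj_Ici (hlink : g.Linked)
    (hpair : ∀ m s, half D ≤ m → m < s → s < D.nroots → Λ.PairOK' hπ m s) :
    ∀ m, half D ≤ m → Λ.Inj (Set.Ici m) ∧
      ∀ r s, m ≤ r → r < s → s < D.nroots → Λ.Rel r s := by
  intro m hm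
  induction' hk : D.nroots - m with k ih generalizing m
  · refine ⟨fun z hz _ => ?_, fun r s hr hrs hs => by omega⟩
    have : Λ.gen (Set.Ici m) = ⊥ := le_bot_iff.1 (Λ.gen_le fun r hr hr' t => by
      simp only [Set.mem_Ici] at hr; omega)
    rw [this, Subgroup.mem_bot] at hz
    exact hz
  obtain ⟨hinj, hrel⟩ := ih (m + 1) (by omega) (by omega)
  have hm' : m < D.nroots := by omega
  have hrelm : ∀ j s, D.nroots - s = j → m < s → s < D.nroots → Λ.Rel m s := by
    intro j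
    induction j using Nat.strong_induction_on with
    | _ j ihj =>
      intro s hj hms hs
      rcases hpair m s hm hms hs with hp | hp | hp | hp
      · exact Λ.rel_step hπ hlink hm hms hs hinj
          (fun k hk hk' => ihj (D.nroots - k) (by omega) k rfl (by omega) hk') (Or.inl hp)
      · exact Λ.rel_step_right hπ hlink hm hms hs hinj
          (fun k hk hk' => hrel s k (by omega) hk hk') hp
      · exact hp
      · exact Λ.rel_step hπ hlink hm hms hs hinj
          (fun k hk hk' => ihj (D.nroots - k) (by omega) k rfl (by omega) hk') (Or.inr hp)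
  refine ⟨fun z hz h1 => ?_, fun r s hr hrs hs => ?_⟩
  · -- split off the first root
    set G1 := Λ.gen (Set.Ici (m + 1))
    have hnorm : ∀ t, ∀ x ∈ G1, Λ.L m t * x * (Λ.L m t)⁻¹ ∈ G1 := by
      intro t x hx
      have hle : G1 ≤ G1.comap (MulAut.conj (Λ.L m t)).toMonoidHom :=
        Λ.gen_le fun k hk hk' v => by
          show Λ.L m t * Λ.L k v * (Λ.L m t)⁻¹ ∈ G1
          rw [Λ.inv_eq hm', show Λ.L m t = (Λ.L m (-t))⁻¹ by rw [Λ.inv_eq hm', neg_neg]]
          exact Λ.conj_mem_of_rel hm hm' hk hk'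
            (hrelm _ k rfl hk hk') (-t) v
      exact hle hx
    let K : Subgroup E :=
      { carrier := {z | ∃ t, ∃ x ∈ G1, z = Λ.L m t * x}
        one_mem' := ⟨0, 1, one_mem _, by rw [Λ.zero hm', one_mul]⟩
        mul_mem' := by
          rintro _ _ ⟨a, x, hx, rfl⟩ ⟨b, y, hy, rfl⟩
          refine ⟨a + b, (Λ.L m (-b) * x * (Λ.L m (-b))⁻¹) * y, mul_mem (hnorm _ x hx) hy, ?_⟩
          rw [← Λ.add m hm', ← Λ.inv_eq hm']
          group
        inv_mem' := by
          rintro _ ⟨a, x, hx, rfl⟩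
          refine ⟨-a, Λ.L m a * x⁻¹ * (Λ.L m a)⁻¹, hnorm _ _ (inv_mem hx), ?_⟩
          rw [← Λ.inv_eq hm']
          group }
    have hle : Λ.gen (Set.Ici m) ≤ K := Λ.gen_le fun r hr hr' t => by
      rcases eq_or_lt_of_le (show m ≤ r from hr) with rfl | hlt
      · exact ⟨t, 1, one_mem _, (mul_one _).symm⟩
      · exact ⟨0, Λ.L r t, Λ.mem_gen (Set.mem_Ici.2 hlt) hr' t, by rw [Λ.zero hm', one_mul]⟩
    obtain ⟨t, x, hx, rfl⟩ := hle hz
    have h2 := congrArg S.θ h1
    rw [map_mul, map_mul, Λ.map m hm', S.θy m hm', map_one] at h2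
    obtain ⟨rfl, -⟩ := g.Ici_unique hm hm' (a := t) (b := 0) (Λ.θ_gen hx)
      (one_mem (rootGen D F (Set.Ici (m + 1)))) (by rw [h2, g.xG_zero, one_mul])
    rw [Λ.zero hm', one_mul] at h1 ⊢
    exact hinj x hx h1
  · rcases eq_or_lt_of_le hr with rfl | hlt
    · exact hrelm _ s rfl hrs hs
    · exact hrel r s hlt hrs hs

/-- A lift of a word moves the lifts of the root elements. -/
theorem conj_word (hπ : IsCentralSurj π) (l : List (Fin D.rank)) :
    ∀ (e : E), π e = S.N l → ∀ s : Fin D.nroots, ∃ c : F, ∀ t,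
      e * Λ.L s t * e⁻¹ = Λ.L (g.wperm l s : ℕ) (c * t) := by
  induction l with
  | nil =>
    intro e he s
    refine ⟨1, fun t => ?_⟩
    rw [g.wperm_nil, Equiv.Perm.one_apply, one_mul]
    rw [S.N_nil] at he
    have hz : e ∈ π.ker := he
    rw [← hπ.comm hz, mul_inv_cancel_right]
  | cons i l ih =>
    intro e he s
    obtain ⟨a, ha⟩ := hπ.surj (S.nI i)
    obtain ⟨c, hc⟩ := ih (a⁻¹ * e) (by rw [map_mul, map_inv, ha, he, S.N_cons, inv_mul_cancel_left]) s
    refine ⟨(g.eta i (g.wperm l s : ℕ) : F) * c, fun t => ?_⟩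
    have h := Λ.conj a i (g.wperm l s) ha (c * t)
    rw [← hc t] at h
    rw [g.wperm_cons, Equiv.Perm.mul_apply,
      mul_assoc (g.eta i (g.wperm l s : ℕ) : F) c t, ← h]
    group

/-- Two roots that are not opposite are positive after a Weyl group element. -/
theorem exists_word_pos (g : Good D) {r s : Fin D.nroots} (hsr : s ≠ r) (hneg : s ≠ g.nroot r) :
    ∃ l : List (Fin D.rank),
      half D ≤ (g.wperm l r).val ∧ half D ≤ (g.wperm l s).val := by
  obtain ⟨m, q, hm⟩ := g.exists_word r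
  obtain ⟨w, hw⟩ := g.exists_longest
  have hw' : ∀ a : Fin D.nroots, a.val < half D → half D ≤ (g.wperm w a).val := by
    intro a ha
    have h := hw (g.nroot a) ((g.nroot_pos_iff a).2 ha)
    rw [g.wperm_nroot] at h
    by_contra hc
    have := (g.nroot_pos_iff (g.wperm w a)).2 (by omega)
    omega
  have hr : g.wperm m.reverse r = g.sroot q := by
    rw [g.wperm_reverse, ← hm]; exact (g.wperm m).symm_apply_apply _
  by_cases hs : half D ≤ (g.wperm m.reverse s).val
  · exact ⟨m.reverse, by rw [hr]; exact g.sroot_pos q, hs⟩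
  · refine ⟨w ++ [q] ++ m.reverse, ?_, ?_⟩ <;>
      simp only [g.wperm_append, g.wperm_cons, g.wperm_nil, mul_one, Equiv.Perm.mul_apply]
    · rw [hr, g.rperm_sroot]
      exact hw' _ (g.nroot_sroot_neg q)
    · refine hw' _ (g.rperm_neg q (by omega) fun h => hneg ?_)
      apply (g.wperm m.reverse).injective
      rw [h, g.wperm_nroot, hr]

/-- (R2) for every pair of roots. -/
theorem rel_all (hπ : IsCentralSurj π) (hlink : g.Linked)
    (hpair : ∀ m s, half D ≤ m → m < s → s < D.nroots → Λ.PairOK' hπ m s) {r s : ℕ}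
    (hr : r < D.nroots) (hs : s < D.nroots) (hsr : s ≠ r) (hneg : s ≠ D.neg r) : Λ.Rel r s := by
  intro t u
  obtain ⟨l, hlr, hls⟩ := exists_word_pos g (r := ⟨r, hr⟩) (s := ⟨s, hs⟩)
    (fun h => hsr (congrArg Fin.val h)) (fun h => hneg (congrArg Fin.val h))
  obtain ⟨e, he⟩ := hπ.surj (S.N l)
  obtain ⟨hinj, -⟩ := Λ.inj_Ici hπ hlink hpair (half D) le_rfl
  -- everything lies in the conjugate of the positive subgroup
  have hmove : ∀ k : Fin D.nroots, half D ≤ (g.wperm l k).val → ∀ v,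
      e * Λ.L k v * e⁻¹ ∈ Λ.gen (Set.Ici (half D)) := by
    intro k hk v
    obtain ⟨c, hc⟩ := Λ.conj_word hπ l e he k
    rw [hc]
    exact Λ.mem_gen hk (Fin.isLt _) _
  set M : Subgroup E := (Λ.gen (Set.Ici (half D))).comap (MulAut.conj e).toMonoidHom
  have hM : ∀ {x}, x ∈ M ↔ e * x * e⁻¹ ∈ Λ.gen (Set.Ici (half D)) := Iff.rfl
  have h1 : Λ.commE r s t u ∈ M := by
    have ha : Λ.L r t ∈ M := hM.2 (hmove ⟨r, hr⟩ hlr t)
    have hb : Λ.L s u ∈ M := hM.2 (hmove ⟨s, hs⟩ hls u)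
    exact mul_mem (mul_mem (mul_mem (inv_mem hb) (inv_mem ha)) hb) ha
  have h2 : Λ.prodE r s t u ∈ M := by
    refine Subgroup.list_prod_mem _ fun x hx => ?_
    obtain ⟨p, hp, rfl⟩ := List.mem_map.1 hx
    have hp' := word_lt S hr hs hp
    refine hM.2 (hmove ⟨p.1, hp'⟩ ?_ p.2)
    obtain ⟨c, hc', rfl⟩ := List.mem_map.1 hp
    obtain ⟨-, h2, h3, h4⟩ := g.commTerms_co S.hc hr hs c hc'
    refine (g.wt_pos_iff (Fin.isLt _)).1 ?_
    have h5 : g.wt (g.wperm l ⟨c.1, hp'⟩) =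
        (c.2.2.1 : ℤ) * g.wt (g.wperm l ⟨r, hr⟩) + (c.2.2.2 : ℤ) * g.wt (g.wperm l ⟨s, hs⟩) := by
      rw [g.wt_wperm l ⟨c.1, hp'⟩, g.wt_wperm l ⟨r, hr⟩, g.wt_wperm l ⟨s, hs⟩, Finset.mul_sum,
        Finset.mul_sum, ← Finset.sum_add_distrib]
      exact Finset.sum_congr rfl fun q _ => by rw [h4 q q.2]; ring
    have h2' : (1 : ℤ) ≤ c.2.2.1 := by exact_mod_cast h2
    have h3' : (1 : ℤ) ≤ c.2.2.2 := by exact_mod_cast h3
    have := g.wt_pos hlr (Fin.isLt _)
    have := g.wt_pos hls (Fin.isLt _)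
    rw [h5]
    nlinarith
  have h3 := Inj.eq Λ hinj (hM.1 h1) (hM.1 h2)
    (by simp only [map_mul, map_inv, Λ.map_commE hr hs hsr hneg])
  exact mul_left_cancel (mul_right_cancel h3)

/-- The homomorphism from the group of (R1), (R2). -/
theorem exists_hom (Λ : LiftData S π) (hπ : IsCentralSurj π) (hlink : g.Linked)
    (hpair : ∀ m s, half D ≤ m → m < s → s < D.nroots → Λ.PairOK' hπ m s) :
    ∃ τ : D.SteinbergCover F →* E, ∀ r < D.nroots, ∀ t, τ (D.scGen F r t) = Λ.L r t := by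
  have hst : ∀ r < D.nroots, ∀ t, FreeGroup.lift (fun p : Fin D.nroots × F => Λ.L p.1 p.2)
      (D.stX r t) = Λ.L r t := fun r hr t => by
    rw [ChevalleyDatum.stX, dif_pos hr, FreeGroup.lift_apply_of]
  have h1 : ∀ x ∈ D.steinbergRelsAB F,
      FreeGroup.lift (fun p : Fin D.nroots × F => Λ.L p.1 p.2) x = 1 := by
    rintro x (⟨r, a, b, hr, rfl⟩ | ⟨r, s, t, u, hr, hs, hsr, hneg, rfl⟩)
    · rw [map_mul, map_mul, map_inv, hst r hr, hst r hr, hst r hr, Λ.add r hr, mul_inv_cancel]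
    · rw [map_mul, map_mul, map_mul, map_mul, map_inv, map_inv, map_inv, hst s hs, hst r hr,
        show (Λ.L s u)⁻¹ * (Λ.L r t)⁻¹ * Λ.L s u * Λ.L r t = Λ.commE r s t u from rfl,
        Λ.rel_all hπ hlink hpair hr hs hsr hneg t u, prodE, ChevalleyDatum.stWord, map_list_prod,
        List.map_map, mul_inv_eq_one]
      exact congrArg List.prod (List.map_congr_left fun p hp =>
        (hst _ (word_lt S hr hs hp) _).symm)
  exact ⟨PresentedGroup.toGroup h1, fun r hr t => hst r hr t⟩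

end LiftData

/-! ### Lifts from the torus -/

variable (S)

/-- A torus element moving the root `r`. -/
def Moves (r : ℕ) : Prop :=
  ∃ h ∈ S.HY, ∃ c : F, c ≠ 1 ∧ ∀ t, h * S.y r t * h⁻¹ = S.y r (c * t)

theorem HY_conj_comm (hlink : g.Linked) (hperf : commutator X = ⊤) (hπ : IsCentralSurj π)
    {h h' : X} (hh : h ∈ S.HY) (hh' : h' ∈ S.HY) (b : X) :
    cpair hπ (h' * h * h'⁻¹) b = cpair hπ h b := by
  have hker : h⁻¹ * (h' * h * h'⁻¹) ∈ S.θ.ker := by
    rw [MonoidHom.mem_ker, map_mul, map_mul, map_mul, map_inv, map_inv,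
      g.diagonal_comm (S.θ_HY hh') (S.θ_HY hh)]
    group
  have e : h' * h * h'⁻¹ = h * (h⁻¹ * (h' * h * h'⁻¹)) := by group
  rw [e, cpair_mul_center_left hπ hperf (S.ker_le_center hlink hker)]

/-- Equivariant lifts exist when the torus moves every root and root subgroups have commuting
lifts. -/
theorem exists_liftData (hlink : g.Linked) (hperf : commutator X = ⊤) (hπ : IsCentralSurj π)
    (hmov : ∀ r < D.nroots, Moves S r)
    (hrr : ∀ r < D.nroots, ∀ t u, cpair hπ (S.y r t) (S.y r u) = 1) :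
    Nonempty (LiftData S π) := by
  classical
  choose h hh c hc hsc using hmov
  set L : ℕ → F → E := fun r t =>
    if hr : r < D.nroots then cpair hπ (h r hr) (S.y r (t / (c r hr - 1))) else 1 with hL
  have hL' : ∀ r (hr : r < D.nroots) t, L r t = cpair hπ (h r hr) (S.y r (t / (c r hr - 1))) :=
    fun r hr t => by simp only [hL, dif_pos hr]
  have hmap : ∀ r < D.nroots, ∀ t, π (L r t) = S.y r t := by
    intro r hr t
    rw [hL' r hr, map_cpair, commutatorElement_def, hsc, S.y_inv hr, S.add r hr]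
    congr 1
    have := sub_ne_zero.2 (hc r hr)
    field_simp
    ring
  have hadd : ∀ r < D.nroots, ∀ a b, L r a * L r b = L r (a + b) := by
    intro r hr a b
    rw [hL' r hr (a + b), show (a + b) / (c r hr - 1) = a / (c r hr - 1) + b / (c r hr - 1) by ring,
      ← S.add r hr]
    obtain ⟨y, hy⟩ := hπ.surj (S.y r (a / (c r hr - 1)))
    rw [cpair_mul_right hπ _ _ _ hy, ← hL' r hr, ← hL' r hr,
      lift_comm hπ (hrr r hr (a / (c r hr - 1)) b) hy (hmap r hr b), mul_inv_cancel_right]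
  have hzero : ∀ r < D.nroots, L r 0 = 1 := fun r hr => by
    have := hadd r hr 0 0
    rw [add_zero] at this
    exact mul_eq_left.1 this
  have hscale : ∀ r < D.nroots, ∀ (e : E) (d : F), π e ∈ S.HY →
      (∀ t, π e * S.y r t * (π e)⁻¹ = S.y r (d * t)) → ∀ t, e * L r t * e⁻¹ = L r (d * t) := by
    intro r hr e d he hd t
    rw [hL' r hr, hL' r hr, conj_cpair, hd, HY_conj_comm S hlink hperf hπ (hh r hr) he,
      mul_div_assoc]
  -- any torus element computes the lifts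
  have hindep : ∀ r < D.nroots, ∀ h' ∈ S.HY, ∀ d : F,
      (∀ t, h' * S.y r t * h'⁻¹ = S.y r (d * t)) →
      ∀ v, cpair hπ h' (S.y r v) = L r ((d - 1) * v) := by
    intro r hr h' hh' d hd v
    obtain ⟨e, rfl⟩ := hπ.surj h'
    rw [← hmap r hr v, cpair_map, commutatorElement_def, hscale r hr e d hh' hd,
      show (L r v)⁻¹ = L r (-v) from inv_eq_of_mul_eq_one_right
        (by rw [hadd r hr, add_neg_cancel, hzero r hr]), hadd r hr]
    congr 1
    ring
  refine ⟨⟨L, hmap, hadd, hscale, fun e i s he t => ?_⟩⟩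
  rw [hL' s s.2, conj_cpair, he, S.nI_conj_y hlink i s,
    hindep _ (Fin.isLt _) _ (S.nI_conj_HY hlink (hh s s.2) i) (c s s.2) (fun v => ?_)]
  · congr 1
    have := sub_ne_zero.2 (hc s s.2)
    field_simp
  · have hne : (g.eta i s : F) * (g.eta i s : F) = 1 := by
      rcases g.eta_sign i.2 s.2 with h | h <;> rw [h] <;> simp
    have e1 := S.nI_conj_y hlink i s ((g.eta i s : F) * v)
    rw [← mul_assoc, hne, one_mul] at e1
    have e2 := S.nI_conj_y hlink i s ((c s s.2) * ((g.eta i s : F) * v))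
    rw [show (g.eta i s : F) * ((c s s.2) * ((g.eta i s : F) * v)) = c s s.2 * v by
      linear_combination (c s s.2 * v) * hne] at e2
    rw [← e2, ← hsc, ← e1]
    group

end CfsgLib.KnownA.CExt
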