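import Cfsg.Agent.Lib.KnownA.CExt.Mult

/-!
Central extensions whose kernel is uniquely `p`-divisible split over Steinberg's groups in
characteristic `p`; projective representations in the natural characteristic.
-/

set_option autoImplicit false
set_option linter.unusedSectionVars false

namespace CfsgLib.KnownA.CExt

open Cfsg.Lie CfsgLib.Chev
open scoped commutatorElement

variable {D : ChevalleyDatum} {F : Type*} [Field F] {g : Good D} {X : Type*} [Group X]
  (S : StData g F X) {E : Type*} [Group E] {π : E →* X} (hπ : IsCentralSurj π)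

include hπ

/-- The lifts of order `p` satisfy the relations. -/
theorem exists_lift_pfree (hlink : g.Linked) (p : ℕ) (hp : (p : F) = 0)
    (hdiv : ∀ z ∈ π.ker, ∃ w ∈ π.ker, w ^ p = z) (hfree : ∀ z ∈ π.ker, z ^ p = 1 → z = 1) :
    ∃ τ : D.SteinbergCover F →* E,
      ∀ r < D.nroots, ∀ t, π (τ (D.scGen F r t)) = S.y r t := by
  classical
  have hy : ∀ r < D.nroots, ∀ t : F, ∀ k : ℕ, S.y r t ^ k = S.y r ((k : F) * t) := by
    intro r hr t k
    induction k with
    | zero => rw [pow_zero, Nat.cast_zero, zero_mul, S.y_zero hr]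
    | succ k ih => rw [pow_succ, ih, S.add r hr, Nat.cast_succ, add_mul, one_mul]
  -- lifts of order `p`
  have hex : ∀ r < D.nroots, ∀ t : F, ∃ x : E, π x = S.y r t ∧ x ^ p = 1 := by
    intro r hr t
    obtain ⟨y, hy'⟩ := hπ.surj (S.y r t)
    obtain ⟨w, hw, hwp⟩ := hdiv (y ^ p) (by
      rw [MonoidHom.mem_ker, map_pow, hy', hy r hr, hp, zero_mul, S.y_zero hr])
    refine ⟨y * w⁻¹, by rw [map_mul, map_inv, MonoidHom.mem_ker.1 hw, inv_one, mul_one, hy'], ?_⟩
    rw [(Commute.inv_right (hπ.comm hw y) : Commute y w⁻¹).mul_pow, inv_pow, hwp, mul_inv_cancel]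
  have huniq : ∀ a b : E, a ^ p = 1 → b ^ p = 1 → π a = π b → a = b := by
    intro a b ha hb hab
    obtain ⟨z, hz, rfl⟩ := hπ.eq_mul_of_map_eq hab
    rw [(show Commute b z from hπ.comm hz b).mul_pow, hb, one_mul] at ha
    rw [hfree z hz ha, mul_one]
  choose L0 hL0 hL0p using hex
  set L : ℕ → F → E := fun r t => if hr : r < D.nroots then L0 r hr t else 1 with hL
  have hmap : ∀ r < D.nroots, ∀ t, π (L r t) = S.y r t := fun r hr t => by simp [hL, hr, hL0]
  have hLp : ∀ r < D.nroots, ∀ t, L r t ^ p = 1 := fun r hr t => by simp [hL, hr, hL0p]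
  have hadd : ∀ r < D.nroots, ∀ a b, L r a * L r b = L r (a + b) := by
    intro r hr a b
    have hc : ⁅L r a, L r b⁆ ∈ π.ker := by
      rw [MonoidHom.mem_ker, map_commutatorElement, hmap r hr, hmap r hr,
        commutatorElement_eq_one_iff_mul_comm, S.add r hr, S.add r hr, add_comm]
    have hcp : ⁅L r a, L r b⁆ ^ p = 1 := by
      have e : ∀ k : ℕ, ⁅L r a, L r b⁆ ^ k = ⁅L r a ^ k, L r b⁆ := by
        intro k
        induction k with
        | zero => rw [pow_zero, pow_zero, commutatorElement_one_left]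
        | succ k ih =>
          rw [pow_succ, pow_succ', ih,
            show ⁅L r a * L r a ^ k, L r b⁆ = L r a * ⁅L r a ^ k, L r b⁆ * (L r a)⁻¹ * ⁅L r a, L r b⁆ by
              simp only [commutatorElement_def]; group,
            show L r a * ⁅L r a ^ k, L r b⁆ * (L r a)⁻¹ = ⁅L r a ^ k, L r b⁆ from
              hπ.conj_ker (by rw [← ih]; exact Subgroup.pow_mem _ hc k) _]
      rw [e, hLp r hr, commutatorElement_one_left]
    have hcomm : Commute (L r a) (L r b) :=
      commutatorElement_eq_one_iff_mul_comm.1 (hfree _ hc hcp)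
    refine huniq _ _ ?_ (hLp r hr _) ?_
    · rw [hcomm.mul_pow, hLp r hr, hLp r hr, mul_one]
    · rw [map_mul, hmap r hr, hmap r hr, hmap r hr, S.add r hr]
  have hconjp : ∀ (e : E) (r : ℕ) (t : F), r < D.nroots → (e * L r t * e⁻¹) ^ p = 1 := by
    intro e r t hr
    rw [conj_pow, hLp r hr, mul_one, mul_inv_cancel]
  let Λ : LiftData S π :=
    ⟨L, hmap, hadd,
      fun r hr e c _ hc t => huniq _ _ (hconjp e r t hr) (hLp r hr _)
        (by rw [map_mul, map_mul, map_inv, hmap r hr, hmap r hr, hc]),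
      fun e i s he t => huniq _ _ (hconjp e s t s.2) (hLp _ (Fin.isLt _) _)
        (by rw [map_mul, map_mul, map_inv, he, hmap s s.2, hmap _ (Fin.isLt _),
          S.nI_conj_y hlink i s])⟩
  obtain ⟨τ, hτ⟩ := Λ.exists_hom hπ hlink
    (fun m s _ _ _ => Or.inr (Or.inr (Or.inr ⟨p, hp, hfree⟩)))
  exact ⟨τ, fun r hr t => by rw [hτ r hr t]; exact hmap r hr t⟩

end CfsgLib.KnownA.CExt
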