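import Mathlib

/-!
The commutator pairing of a central extension: the commutator of any lifts of two elements.
-/

set_option autoImplicit false
set_option linter.unusedSectionVars false

namespace CfsgLib.KnownA.CExt

open scoped commutatorElement

variable {E X : Type*} [Group E] [Group X]

/-- A surjection with central kernel. -/
structure IsCentralSurj (π : E →* X) : Prop where
  surj : Function.Surjective π
  central : π.ker ≤ Subgroup.center E

variable {π : E →* X} (hπ : IsCentralSurj π)
include hπ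

theorem IsCentralSurj.eq_mul_of_map_eq {x y : E} (h : π x = π y) :
    ∃ z ∈ π.ker, x = y * z :=
  ⟨y⁻¹ * x, by rw [MonoidHom.mem_ker, map_mul, map_inv, h, inv_mul_cancel], by group⟩

theorem IsCentralSurj.comm {z : E} (hz : z ∈ π.ker) (x : E) : x * z = z * x :=
  Subgroup.mem_center_iff.1 (hπ.central hz) x

theorem IsCentralSurj.conj_ker {z : E} (hz : z ∈ π.ker) (x : E) : x * z * x⁻¹ = z := by
  rw [hπ.comm hz, mul_inv_cancel_right]

/-- The commutator of lifts. -/
noncomputable def cpair (hπ : IsCentralSurj π) (a b : X) : E :=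
  ⁅Function.surjInv hπ.surj a, Function.surjInv hπ.surj b⁆

theorem comm_mul_ker_left (x y : E) {z : E} (hz : z ∈ π.ker) : ⁅x * z, y⁆ = ⁅x, y⁆ := by
  rw [commutatorElement_def, commutatorElement_def, mul_inv_rev,
    show x * z * y * (z⁻¹ * x⁻¹) * y⁻¹ = x * (z * y * z⁻¹) * x⁻¹ * y⁻¹ by group,
    ← hπ.comm hz y, mul_inv_cancel_right]

theorem comm_mul_ker_right (x y : E) {z : E} (hz : z ∈ π.ker) : ⁅x, y * z⁆ = ⁅x, y⁆ := by
  rw [← inv_inj, commutatorElement_inv, commutatorElement_inv, comm_mul_ker_left hπ _ _ hz]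

/-- Any lifts compute the pairing. -/
theorem cpair_eq {a b : X} {x y : E} (hx : π x = a) (hy : π y = b) :
    cpair hπ a b = ⁅x, y⁆ := by
  obtain ⟨z, hz, ex⟩ := hπ.eq_mul_of_map_eq
    (show π (Function.surjInv hπ.surj a) = π x by rw [hx, Function.surjInv_eq hπ.surj])
  obtain ⟨w, hw, ey⟩ := hπ.eq_mul_of_map_eq
    (show π (Function.surjInv hπ.surj b) = π y by rw [hy, Function.surjInv_eq hπ.surj])
  rw [cpair, ex, ey, comm_mul_ker_left hπ _ _ hz, comm_mul_ker_right hπ _ _ hw]

theorem map_cpair (a b : X) : π (cpair hπ a b) = ⁅a, b⁆ := by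
  rw [cpair, map_commutatorElement, Function.surjInv_eq hπ.surj, Function.surjInv_eq hπ.surj]

theorem cpair_map (x y : E) : cpair hπ (π x) (π y) = ⁅x, y⁆ := cpair_eq hπ rfl rfl

theorem conj_cpair (e : E) (a b : X) :
    e * cpair hπ a b * e⁻¹ = cpair hπ (π e * a * (π e)⁻¹) (π e * b * (π e)⁻¹) := by
  obtain ⟨x, rfl⟩ := hπ.surj a
  obtain ⟨y, rfl⟩ := hπ.surj b
  rw [cpair_map, ← map_inv, ← map_mul, ← map_mul, ← map_mul, ← map_mul, cpair_map,
    commutatorElement_def, commutatorElement_def]
  group

theorem cpair_swap (a b : X) : cpair hπ b a = (cpair hπ a b)⁻¹ := by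
  rw [cpair, cpair, commutatorElement_inv]

theorem cpair_one_left (b : X) : cpair hπ 1 b = 1 := by
  obtain ⟨y, rfl⟩ := hπ.surj b
  rw [← map_one π, cpair_map, commutatorElement_one_left]

theorem cpair_one_right (a : X) : cpair hπ a 1 = 1 := by
  rw [cpair_swap hπ 1 a, cpair_one_left, inv_one]

/-- Commuting elements pair into the kernel. -/
theorem cpair_mem_ker {a b : X} (h : a * b = b * a) : cpair hπ a b ∈ π.ker := by
  rw [MonoidHom.mem_ker, map_cpair, commutatorElement_def, h, mul_inv_cancel_right, mul_inv_cancel]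

/-- All lifts of paired elements commute exactly when the pairing is trivial. -/
theorem cpair_eq_one_iff {x y : E} : cpair hπ (π x) (π y) = 1 ↔ x * y = y * x := by
  rw [cpair_map, commutatorElement_eq_one_iff_mul_comm]

theorem lift_comm {a b : X} (h : cpair hπ a b = 1) {x y : E} (hx : π x = a) (hy : π y = b) :
    x * y = y * x := by
  subst hx hy
  exact (cpair_eq_one_iff hπ).1 h

theorem cpair_mul_right (a b b' : X) {y : E} (hy : π y = b) :
    cpair hπ a (b * b') = cpair hπ a b * (y * cpair hπ a b' * y⁻¹) := by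
  obtain ⟨x, rfl⟩ := hπ.surj a
  obtain ⟨y', rfl⟩ := hπ.surj b'
  subst hy
  rw [← map_mul, cpair_map, cpair_map, cpair_map, commutatorElement_def, commutatorElement_def,
    commutatorElement_def]
  group

theorem cpair_mul_left (a a' b : X) {x : E} (hx : π x = a) :
    cpair hπ (a * a') b = x * cpair hπ a' b * x⁻¹ * cpair hπ a b := by
  obtain ⟨y, rfl⟩ := hπ.surj b
  obtain ⟨x', rfl⟩ := hπ.surj a'
  subst hx
  rw [← map_mul, cpair_map, cpair_map, cpair_map, commutatorElement_def, commutatorElement_def,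
    commutatorElement_def]
  group

/-- Biadditive in the second variable for commuting elements. -/
theorem cpair_mul_right_of_comm {a b b' : X} (h' : a * b' = b' * a) :
    cpair hπ a (b * b') = cpair hπ a b * cpair hπ a b' := by
  obtain ⟨y, hy⟩ := hπ.surj b
  rw [cpair_mul_right hπ a b b' hy, hπ.conj_ker (cpair_mem_ker hπ h')]

theorem cpair_mul_left_of_comm {a a' b : X} (h : a * b = b * a) (h' : a' * b = b * a') :
    cpair hπ (a * a') b = cpair hπ a b * cpair hπ a' b := by
  obtain ⟨x, hx⟩ := hπ.surj a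
  rw [cpair_mul_left hπ a a' b hx, hπ.conj_ker (cpair_mem_ker hπ h'),
    hπ.comm (cpair_mem_ker hπ h)]

/-- A central element of a perfect group pairs trivially with everything. -/
theorem cpair_center (hperf : commutator X = ⊤) {z : X} (hz : z ∈ Subgroup.center X) (b : X) :
    cpair hπ z b = 1 := by
  have hcomm : ∀ c, z * c = c * z := fun c => (Subgroup.mem_center_iff.1 hz c).symm
  let f : X →* π.ker :=
    { toFun := fun c => ⟨cpair hπ z c, cpair_mem_ker hπ (hcomm c)⟩
      map_one' := Subtype.ext (cpair_one_right hπ z)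
      map_mul' := fun c c' => Subtype.ext (cpair_mul_right_of_comm hπ (hcomm c')) }
  have hab : ∀ u v : π.ker, u * v = v * u := fun u v => Subtype.ext (hπ.comm v.2 u)
  have hker : commutator X ≤ f.ker := by
    rw [commutator_def, Subgroup.commutator_le]
    intro p _ q _
    rw [MonoidHom.mem_ker, map_commutatorElement, commutatorElement_eq_one_iff_mul_comm]
    exact hab _ _
  rw [hperf] at hker
  exact congrArg Subtype.val (MonoidHom.mem_ker.1 (hker (Subgroup.mem_top b)))

theorem cpair_mul_center_left (hperf : commutator X = ⊤) {z : X} (hz : z ∈ Subgroup.center X)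
    (a b : X) : cpair hπ (a * z) b = cpair hπ a b := by
  obtain ⟨x, hx⟩ := hπ.surj a
  rw [cpair_mul_left hπ a z b hx, cpair_center hπ hperf hz, mul_one, mul_inv_cancel, one_mul]

/-- If `r` commutes with `a` and `b`, its lifts commute with those of `⁅a, b⁆`. -/
theorem cpair_commutator {r a b : X} (ha : r * a = a * r) (hb : r * b = b * r) :
    cpair hπ r ⁅a, b⁆ = 1 := by
  obtain ⟨x, rfl⟩ := hπ.surj r
  rw [← map_cpair hπ a b, cpair_eq_one_iff]
  have h := conj_cpair hπ x a b
  rw [ha, hb, mul_inv_cancel_right, mul_inv_cancel_right] at h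
  exact (mul_inv_eq_iff_eq_mul).1 h

/-- The elements whose lifts commute with the lifts of `r`. -/
def commSet (hπ : IsCentralSurj π) (r : X) : Subgroup X where
  carrier := {b | cpair hπ r b = 1}
  one_mem' := cpair_one_right hπ r
  mul_mem' := fun {b b'} hb hb' => by
    obtain ⟨y, hy⟩ := hπ.surj b
    show cpair hπ r (b * b') = 1
    rw [cpair_mul_right hπ r b b' hy, hb, hb', one_mul, mul_one, mul_inv_cancel]
  inv_mem' := fun {b} hb => by
    obtain ⟨x, rfl⟩ := hπ.surj r
    obtain ⟨y, rfl⟩ := hπ.surj b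
    have h : x * y = y * x := (cpair_eq_one_iff hπ).1 hb
    show cpair hπ (π x) (π y)⁻¹ = 1
    rw [← map_inv, cpair_eq_one_iff]
    exact (Commute.inv_right h).eq

theorem mem_commSet {r b : X} : b ∈ commSet hπ r ↔ cpair hπ r b = 1 := Iff.rfl

end CfsgLib.KnownA.CExt
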