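import Cfsg.Agent.Lib.KnownA.CExt.Lift

/-!
Torus elements with prescribed weights and the commutation of lifts they force.
-/

set_option autoImplicit false
set_option linter.unusedSectionVars false

namespace CfsgLib.KnownA.CExt

open Cfsg.Lie CfsgLib.Chev
open scoped commutatorElement

variable {D : ChevalleyDatum} {F : Type*} [Field F] {g : Good D} {X : Type*} [Group X]
  (S : StData g F X) {E : Type*} [Group E] {π : E →* X}

/-- The weight of the cocharacter `A` on a root. -/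
def cwt (D : ChevalleyDatum) (A : Fin D.rank → ℤ) (r : ℕ) : ℤ :=
  ∑ j : Fin D.rank, A j * D.cartan j r

theorem prod_zpow_eq {ι : Type*} (s : Finset ι) (f : ι → ℤ) (z : Fˣ) :
    ∏ k ∈ s, z ^ f k = z ^ ∑ k ∈ s, f k := by
  classical
  induction s using Finset.induction with
  | empty => simp
  | insert q s hq ih => rw [Finset.prod_insert hq, Finset.sum_insert hq, _root_.zpow_add, ih]

/-- Some element of the torus acts by `c ^ cwt A` on every root element. -/
theorem exists_scale (hlink : g.Linked) (A : Fin D.rank → ℤ) (c : Fˣ) :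
    ∃ h ∈ S.HY, ∀ r < D.nroots, ∀ t,
      h * S.y r t * h⁻¹ = S.y r (((c ^ cwt D A r : Fˣ) : F) * t) := by
  classical
  have hsurj : (torHom D F).range ≤ S.HY.map S.θ := by
    rintro _ ⟨a, rfl⟩
    show a ∈ (S.HY.map S.θ).comap (torHom D F)
    rw [← Finset.univ_prod_mulSingle a]
    refine Subgroup.prod_mem _ fun i _ => ⟨_, S.hY_mem i (a i), ?_⟩
    rw [S.θ_hY (g.simple_lt i.2), g.torHom_single]
  obtain ⟨h, hh, hθ⟩ := hsurj ⟨fun j => c ^ A j, rfl⟩
  refine ⟨h, hh, fun r hr t => ?_⟩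
  obtain ⟨d, hd⟩ := S.HY_scale hlink hh ⟨r, hr⟩
  have h1 := congrArg S.θ (hd 1)
  rw [map_mul, map_mul, map_inv, hθ, S.θy r hr, S.θy r hr, g.torHom_conj_xG _ hr] at h1
  have h2 := g.x_inj hr h1
  rw [mul_one, mul_one] at h2
  rw [hd t, ← h2]
  congr 3
  simp only [cwt, ← zpow_mul]
  rw [prod_zpow_eq]

/-- The torus moves a root. -/
theorem moves_of_cwt (hlink : g.Linked) {r : ℕ} (hr : r < D.nroots) (A : Fin D.rank → ℤ) (c : Fˣ)
    (hc : c ^ cwt D A r ≠ 1) : Moves S r := by
  obtain ⟨h, hh, hs⟩ := exists_scale S hlink A c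
  exact ⟨h, hh, _, fun h1 => hc (Units.ext h1), hs r hr⟩

variable (hπ : IsCentralSurj π)
include hπ

/-- Separation by the torus. -/
theorem pairOK_of_cwt (hlink : g.Linked) {m s : ℕ} (hm : m < D.nroots) (hs : s < D.nroots)
    (A : Fin D.rank → ℤ) (c : Fˣ) (hs0 : cwt D A s = 0) (hc : c ^ cwt D A m ≠ 1) :
    PairOK S hπ m s := by
  obtain ⟨h, hh, hsc⟩ := exists_scale S hlink A c
  refine Or.inl ⟨h, hh, _, fun h1 => hc (Units.ext h1), hsc m hm, fun u => ?_⟩
  rw [hsc s hs, hs0, zpow_zero, Units.val_one, one_mul]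

/-- Two root subgroups commute when the coefficients of the formula vanish. -/
theorem comm_of_coeff_zero (S : StData g F X) {r s : ℕ} (hr : r < D.nroots) (hs : s < D.nroots)
    (hsr : s ≠ r) (hneg : s ≠ D.neg r) (h0 : ∀ c ∈ D.commTerms r s, (c.2.1 : F) = 0) (t u : F) :
    S.y r t * S.y s u = S.y s u * S.y r t := by
  have h := S.comm r s hr hs hsr hneg t u
  rw [List.prod_eq_one (fun x hx => ?_), mul_assoc, mul_assoc, inv_mul_eq_one] at h
  · rw [eq_inv_mul_iff_mul_eq] at h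
    exact h
  · obtain ⟨p, hp, rfl⟩ := List.mem_map.1 hx
    obtain ⟨c, hc, rfl⟩ := List.mem_map.1 hp
    show S.y c.1 _ = 1
    rw [h0 c hc, zero_mul, zero_mul, S.y_zero (g.commTerms_co S.hc hr hs c hc).1]

omit hπ in
theorem comm_self (S : StData g F X) {r : ℕ} (hr : r < D.nroots) (t u : F) :
    S.y r t * S.y r u = S.y r u * S.y r t := by
  rw [S.add r hr, S.add r hr, add_comm]

/-- Commuting root subgroups separated by the torus have commuting lifts. -/
theorem cpair_eq_one_of_cwt (hlink : g.Linked) {m s : ℕ} (hm : m < D.nroots) (hs : s < D.nroots)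
    (hcomm : ∀ t u, S.y m t * S.y s u = S.y s u * S.y m t)
    (A : Fin D.rank → ℤ) (c : Fˣ) (hs0 : cwt D A s = 0) (hc : c ^ cwt D A m ≠ 1) (t u : F) :
    cpair hπ (S.y m t) (S.y s u) = 1 := by
  obtain ⟨h, hh, hsc⟩ := exists_scale S hlink A c
  obtain ⟨e, rfl⟩ := hπ.surj h
  set d := ((c ^ cwt D A m : Fˣ) : F) with hd
  have hd1 : d ≠ 1 := fun h1 => hc (Units.ext h1)
  have hinv : ∀ a, cpair hπ (S.y m (d * a)) (S.y s u) = cpair hπ (S.y m a) (S.y s u) := by
    intro a
    have h1 := conj_cpair hπ e (S.y m a) (S.y s u)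
    rw [hπ.conj_ker (cpair_mem_ker hπ (hcomm a u)), hsc m hm, hsc s hs, hs0, zpow_zero,
      Units.val_one, one_mul] at h1
    exact h1.symm
  have h1 := hinv (t / (d - 1))
  rw [show d * (t / (d - 1)) = t + t / (d - 1) by field_simp [sub_ne_zero.2 hd1]; ring,
    ← S.add m hm, cpair_mul_left_of_comm hπ (hcomm _ u) (hcomm _ u)] at h1
  exact mul_eq_right.1 h1

/-- Root subgroups have commuting lifts over a field with more than four elements, if the torus
scales them by every scalar. -/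
theorem cpair_self_eq_one (hlink : g.Linked) {r : ℕ} (hr : r < D.nroots)
    (A : Fin D.rank → ℤ) (hA : cwt D A r = 1) (hF : ∃ a : F, a ≠ 0 ∧ a ≠ 1 ∧ a * (1 - a) ≠ 1)
    (t u : F) : cpair hπ (S.y r t) (S.y r u) = 1 := by
  set f : F → F → E := fun t u => cpair hπ (S.y r t) (S.y r u) with hf
  have haddr : ∀ a b b', f a (b + b') = f a b * f a b' := fun a b b' => by
    simp only [hf, ← S.add r hr b b']
    exact cpair_mul_right_of_comm hπ (comm_self S hr a b')
  have haddl : ∀ a a' b, f (a + a') b = f a b * f a' b := fun a a' b => by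
    simp only [hf, ← S.add r hr a a']
    exact cpair_mul_left_of_comm hπ (comm_self S hr a b) (comm_self S hr a' b)
  have hinv : ∀ (c : Fˣ) a b, f ((c : F) * a) ((c : F) * b) = f a b := by
    intro c a b
    obtain ⟨h, hh, hsc⟩ := exists_scale S hlink A c
    obtain ⟨e, rfl⟩ := hπ.surj h
    have h1 := conj_cpair hπ e (S.y r a) (S.y r b)
    rw [hπ.conj_ker (cpair_mem_ker hπ (comm_self S hr a b)), hsc r hr, hsc r hr, hA,
      zpow_one] at h1
    exact h1.symm
  obtain ⟨a, ha0, ha1, ha⟩ := hF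
  have hb0 : 1 - a ≠ 0 := sub_ne_zero.2 (Ne.symm ha1)
  have hdiv : ∀ (c y : F), c ≠ 0 → f c y = f 1 (y / c) := by
    intro c y hc
    have := hinv (Units.mk0 c hc) 1 (y / c)
    rw [Units.val_mk0, mul_one, mul_div_cancel₀ y hc] at this
    exact this
  have key : ∀ y, f 1 y = f 1 (y / (a * (1 - a))) := by
    intro y
    have := haddl a (1 - a) y
    rw [add_sub_cancel, hdiv a y ha0, hdiv (1 - a) y hb0, ← haddr] at this
    rw [this]
    congr 1
    field_simp
    ring
  have hk : (1 : F) / (a * (1 - a)) - 1 ≠ 0 := by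
    rw [sub_ne_zero, Ne, div_eq_one_iff_eq (mul_ne_zero ha0 hb0)]
    exact Ne.symm ha
  have h1 : ∀ y, f 1 y = 1 := by
    intro y
    have h := key (y / ((1 : F) / (a * (1 - a)) - 1))
    rw [show y / ((1 : F) / (a * (1 - a)) - 1) / (a * (1 - a)) =
      y / ((1 : F) / (a * (1 - a)) - 1) + y by
        linear_combination div_mul_cancel₀ y hk, haddr] at h
    exact mul_eq_left.1 h.symm
  show f t u = 1
  by_cases ht : t = 0
  · subst ht
    simp only [hf, S.y_zero hr]
    exact cpair_one_left hπ _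
  · rw [hdiv t u ht, h1]

/-- Root subgroups over a prime field have commuting lifts. -/
theorem cpair_self_of_prime {r : ℕ} (hr : r < D.nroots) (hF : ∀ t : F, ∃ n : ℕ, (n : F) = t)
    (t u : F) : cpair hπ (S.y r t) (S.y r u) = 1 := by
  have hpow : ∀ n : ℕ, S.y r (n : F) = S.y r 1 ^ n := by
    intro n
    induction n with
    | zero => rw [Nat.cast_zero, S.y_zero hr, pow_zero]
    | succ n ih => rw [Nat.cast_succ, ← S.add r hr, ih, pow_succ]
  obtain ⟨n, rfl⟩ := hF t
  obtain ⟨k, rfl⟩ := hF u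
  obtain ⟨x, hx⟩ := hπ.surj (S.y r 1)
  rw [hpow, hpow, ← hx, ← map_pow, ← map_pow, cpair_eq_one_iff, ← pow_add, ← pow_add, add_comm]

/-- Hall–Witt: a root element that is a commutator of root elements it commutes with. -/
theorem cpair_eq_one_of_comm (S : StData g F X) {r k a b : ℕ} (hr : r < D.nroots)
    (ha : a < D.nroots) (hb : b < D.nroots) (hba : b ≠ a) (hneg : b ≠ D.neg a)
    (hra : ∀ t u, S.y r t * S.y a u = S.y a u * S.y r t)
    (hrb : ∀ t u, S.y r t * S.y b u = S.y b u * S.y r t)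
    {L₁ L₂ : List (ℕ × ℤ × ℕ × ℕ)} {C : ℤ} {i j : ℕ}
    (hterms : D.commTerms a b = L₁ ++ (k, C, i, j) :: L₂) (hC : (C : F) ≠ 0) (hij : i = 1 ∨ j = 1)
    (hrest : ∀ c ∈ L₁ ++ L₂, ∀ t v, cpair hπ (S.y r t) (S.y c.1 v) = 1) (t u : F) :
    cpair hπ (S.y r t) (S.y k u) = 1 := by
  have hmem : ∀ v w, ((D.commWord F a b v w).map fun p => S.y p.1 p.2).prod ∈
      commSet hπ (S.y r t) := by
    intro v w
    rw [← S.comm a b ha hb hba hneg v w, mem_commSet, S.y_inv hb, S.y_inv ha,
      show S.y b (-w) * S.y a (-v) * S.y b w * S.y a v = ⁅S.y b (-w), S.y a (-v)⁆ by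
        rw [commutatorElement_def, S.y_inv hb, S.y_inv ha, _root_.neg_neg, _root_.neg_neg]]
    exact cpair_commutator hπ (hrb t _) (hra t _)
  obtain ⟨v, w, hvw⟩ : ∃ v w : F, (C : F) * (-v) ^ i * w ^ j = u := by
    rcases hij with rfl | rfl
    · exact ⟨-(u / C), 1, by simp [mul_div_cancel₀ u hC]⟩
    · exact ⟨-1, u / C, by simp [mul_div_cancel₀ u hC]⟩
  have h := hmem v w
  simp only [ChevalleyDatum.commWord, hterms, List.map_append, List.map_cons, List.map_map,
    List.prod_append, List.prod_cons, hvw] at h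
  have hr' : ∀ L : List (ℕ × ℤ × ℕ × ℕ), (∀ c ∈ L, c ∈ L₁ ++ L₂) →
      (L.map ((fun p : ℕ × F => S.y p.1 p.2) ∘ fun c : ℕ × ℤ × ℕ × ℕ =>
        (c.1, (c.2.1 : F) * (-v) ^ c.2.2.1 * w ^ c.2.2.2))).prod ∈ commSet hπ (S.y r t) :=
    fun L hL => Subgroup.list_prod_mem _ fun x hx => by
      obtain ⟨c, hc, rfl⟩ := List.mem_map.1 hx
      exact hrest c (hL c hc) t _
  rw [Subgroup.mul_mem_cancel_left _ (hr' L₁ fun c hc => List.mem_append_left _ hc),
    Subgroup.mul_mem_cancel_right _ (hr' L₂ fun c hc => List.mem_append_right _ hc)] at h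
  exact h

end CfsgLib.KnownA.CExt
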