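import Cfsg.Agent.Lib.KnownA.CExt.Cert
import Cfsg.Agent.Lib.Chev.StPerfect

/-!
Central extensions of the group of Steinberg's relations (R1), (R2) split.
-/

set_option autoImplicit false
set_option linter.unusedSectionVars false
set_option maxRecDepth 100000

namespace CfsgLib.KnownA.CExt

open Cfsg.Lie CfsgLib.Chev

/-- Hall–Witt witnesses for the fundamental roots. -/
noncomputable def hwsOK (D : ChevalleyDatum) (p : ℕ) (dl : List ℕ) (W : List (ℕ × ℕ)) : Bool :=
  allR (fun i => hwB D p dl (D.simple i) (nth (0, 0) W i)) (upto D.rank)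

def noExc (_ _ : ℕ) : Bool := false

theorem movesG2 : movesOK chevG2 [1, 2, 3] = true := by decide +kernel
theorem movesB2 : movesOK chevB2 [1, 2] = true := by decide +kernel
theorem movesD4 : movesOK chevD4 [1] = true := by decide +kernel
theorem movesF4 : movesOK chevF4 [1] = true := by decide +kernel
theorem movesE6 : movesOK chevE6 [1] = true := by decide +kernel
theorem movesE7 : movesOK chevE7 [1] = true := by decide +kernel
theorem movesE8 : movesOK chevE8 [1] = true := by decide +kernel

theorem pairsG2 : pairsOK chevG2 [1, 2, 3] noExc = true := by decide +kernel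
theorem pairsB2 : pairsOK chevB2 [1, 2] noExc = true := by decide +kernel
theorem pairsD4 : pairsOK chevD4 [1, 2] noExc = true := by decide +kernel
theorem pairsF4 : pairsOK chevF4 [1, 2] noExc = true := by decide +kernel
theorem pairsE6 : pairsOK chevE6 [1] noExc = true := by decide +kernel
theorem pairsE7 : pairsOK chevE7 [1] noExc = true := by decide +kernel
theorem pairsE8 : pairsOK chevE8 [1] noExc = true := by decide +kernel

theorem unitG2 : unitB chevG2 0 = true := by decide +kernel
theorem unitB2 : unitB chevB2 0 = true := by decide +kernel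
theorem hwG2 : hwB chevG2 0 [1, 2, 3] (chevG2.simple 1) (1, 11) = true := by decide +kernel
theorem hwB2 : hwB chevB2 0 [1, 2] (chevB2.simple 1) (0, 6) = true := by decide +kernel
theorem hwB2two : hwsOK chevB2 2 [1, 2] [(1, 7), (0, 6)] = true := by decide +kernel
theorem hwD4 : hwsOK chevD4 0 [1] [(6, 22), (1, 23), (3, 22), (2, 22)] = true := by decide +kernel
theorem hwF4 : hwsOK chevF4 0 [1] [(7, 44), (8, 40), (0, 39), (1, 47)] = true := by decide +kernel
theorem hwE6 : hwsOK chevE6 0 [1] [(16, 66), (1, 71), (5, 69), (2, 70), (3, 69), (4, 68)] = true := by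
  decide +kernel
theorem hwE7 :
    hwsOK chevE7 0 [1] [(1, 125), (7, 122), (2, 124), (3, 123), (4, 122), (5, 121), (6, 120)] = true := by
  decide +kernel
theorem hwE8 : hwsOK chevE8 0 [1]
    [(14, 233), (7, 234), (6, 234), (5, 235), (4, 236), (3, 237), (2, 238), (1, 239)] = true := by
  decide +kernel

variable {D : ChevalleyDatum} {F : Type*} [Field F] {g : Good D} {X : Type*} [Group X]
  (S : StData g F X) {E : Type*} [Group E] {π : E →* X} (hπ : IsCentralSurj π)

include hπ in
theorem cpair_self_of_hws (hlink : g.Linked) {p : ℕ} {dl : List ℕ} {W : List (ℕ × ℕ)}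
    (h : hwsOK D p dl W = true) (hp : p = 0 ∨ (p : F) = 0)
    (hpow : ∀ d ∈ dl, ∃ c : Fˣ, c ^ d ≠ 1) :
    ∀ r < D.nroots, ∀ t u, cpair hπ (S.y r t) (S.y r u) = 1 :=
  cpair_self_all S hπ hlink fun _ hi =>
    cpair_self_of_hwB S hπ hlink (g.simple_lt hi) (allR_upto h hi) hp hpow

/-- Splitting from the three inputs. -/
theorem exists_lift_of (hlink : g.Linked) (hperf : commutator X = ⊤) (hπ : IsCentralSurj π)
    (hmov : ∀ r < D.nroots, Moves S r)
    (hrr : ∀ r < D.nroots, ∀ t u, cpair hπ (S.y r t) (S.y r u) = 1)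
    (hpair : ∀ m s, half D ≤ m → m < s → s < D.nroots → PairOK S hπ m s) :
    ∃ τ : D.SteinbergCover F →* E,
      ∀ r < D.nroots, ∀ t, π (τ (D.scGen F r t)) = S.y r t := by
  obtain ⟨Λ⟩ := exists_liftData S hlink hperf hπ hmov hrr
  obtain ⟨τ, hτ⟩ := Λ.exists_hom hπ hlink fun m s hm hms hs => Or.inl (hpair m s hm hms hs)
  exact ⟨τ, fun r hr t => by rw [hτ r hr t, Λ.map r hr]⟩

/-- Fields large enough for the separation argument. -/
structure BigField (F : Type*) [Field F] (D : ChevalleyDatum) : Prop where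
  one : ∃ c : Fˣ, c ≠ 1
  two : D ∈ [chevG2, chevB2, chevD4, chevF4] → ∃ c : Fˣ, c ^ 2 ≠ 1
  three : D = chevG2 → ∃ c : Fˣ, c ^ 3 ≠ 1
  self : D = chevG2 ∨ D = chevB2 →
    (D = chevB2 ∧ (2 : F) = 0) ∨ ∃ a : F, a ≠ 0 ∧ a ≠ 1 ∧ a * (1 - a) ≠ 1

theorem bigField_of_five (D : ChevalleyDatum) (h : ∃ s : Finset F, 4 < s.card) : BigField F D := by
  classical
  obtain ⟨s, hs⟩ := h
  set t := (s.erase 0).erase 1
  have ht : 3 ≤ t.card := by
    have := Finset.pred_card_le_card_erase (s := s) (a := (0 : F))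
    have := Finset.pred_card_le_card_erase (s := s.erase 0) (a := (1 : F))
    simp only [t]; omega
  have hmem : ∀ a ∈ t, a ≠ 0 ∧ a ≠ 1 := fun a ha => by
    simp only [t, Finset.mem_erase] at ha; exact ⟨ha.2.1, ha.1⟩
  obtain ⟨a, ha, b, hb, c, hc, hab, hac, hbc⟩ := Finset.two_lt_card.1 ht
  have hu : ∀ {x : F} (hx : x ∈ t) (n : ℕ), x ^ n ≠ 1 → ∃ c : Fˣ, c ^ n ≠ 1 := fun {x} hx n hn =>
    ⟨Units.mk0 x (hmem x hx).1, fun h => hn (by simpa using congrArg Units.val h)⟩
  refine ⟨⟨Units.mk0 a (hmem a ha).1, fun h => (hmem a ha).2 (congrArg Units.val h)⟩,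
    fun _ => ?_, fun _ => ?_, fun _ => Or.inr ?_⟩
  · by_contra hno
    push Not at hno
    have e : ∀ x ∈ t, x = -1 := by
      intro x hx
      by_contra hne
      have h2 : x ^ 2 = 1 := by simpa using congrArg Units.val (hno (Units.mk0 x (hmem x hx).1))
      rcases sq_eq_one_iff.1 h2 with h | h
      · exact (hmem x hx).2 h
      · exact hne h
    exact hab ((e a ha).trans (e b hb).symm)
  · by_contra hno
    push Not at hno
    have e : ∀ x ∈ t, x ^ 2 + x + 1 = 0 := by
      intro x hx
      have h3 : x ^ 3 = 1 := by simpa using congrArg Units.val (hno (Units.mk0 x (hmem x hx).1))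
      have : (x - 1) * (x ^ 2 + x + 1) = 0 := by linear_combination h3
      exact (mul_eq_zero.1 this).resolve_left (sub_ne_zero.2 (hmem x hx).2)
    have h1 : (a - b) * (a + b + 1) = 0 := by linear_combination e a ha - e b hb
    have h2 : (a - c) * (a + c + 1) = 0 := by linear_combination e a ha - e c hc
    have h1' := (mul_eq_zero.1 h1).resolve_left (sub_ne_zero.2 hab)
    have h2' := (mul_eq_zero.1 h2).resolve_left (sub_ne_zero.2 hac)
    exact hbc (by linear_combination h1' - h2')
  · by_contra hno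
    push Not at hno
    have e : ∀ x ∈ t, x * (1 - x) = 1 := fun x hx => hno x (hmem x hx).1 (hmem x hx).2
    have h1 : (a - b) * (1 - a - b) = 0 := by linear_combination e a ha - e b hb
    have h2 : (a - c) * (1 - a - c) = 0 := by linear_combination e a ha - e c hc
    have h1' := (mul_eq_zero.1 h1).resolve_left (sub_ne_zero.2 hab)
    have h2' := (mul_eq_zero.1 h2).resolve_left (sub_ne_zero.2 hac)
    exact hbc (by linear_combination h2' - h1')

/-- Finite fields large enough. -/
theorem bigField_of_card [Fintype F] (D : ChevalleyDatum) (h3 : 3 ≤ Fintype.card F)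
    (h4 : D ∈ [chevG2, chevB2, chevD4, chevF4] → 4 ≤ Fintype.card F)
    (h5 : D = chevG2 → 5 ≤ Fintype.card F) : BigField F D := by
  obtain ⟨ω, hω⟩ := IsCyclic.exists_generator (α := Fˣ)
  have hord : orderOf ω = Fintype.card F - 1 := by
    rw [orderOf_eq_card_of_forall_mem_zpowers hω, Nat.card_units, Nat.card_eq_fintype_card]
  have hpow : ∀ d, 0 < d → d < Fintype.card F - 1 → ∃ c : Fˣ, c ^ d ≠ 1 := fun d hd hd' =>
    ⟨ω, pow_ne_one_of_lt_orderOf (by omega) (by omega)⟩
  refine ⟨?_, fun h => hpow 2 (by omega) (by have := h4 h; omega),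
    fun h => hpow 3 (by omega) (by have := h5 h; omega), fun h => ?_⟩
  · obtain ⟨c, hc⟩ := hpow 1 (by omega) (by omega)
    exact ⟨c, by rwa [pow_one] at hc⟩
  · by_cases hq : 4 < Fintype.card F
    · refine (bigField_of_five D ⟨Finset.univ, by rwa [Finset.card_univ]⟩).self h
    · have h4' : 4 ≤ Fintype.card F := h4 (by rcases h with rfl | rfl <;> simp)
      rcases h with rfl | rfl
      · have := h5 rfl
        omega
      · refine Or.inl ⟨rfl, ?_⟩
        have h0 : ((Fintype.card F : ℕ) : F) = 0 := FiniteField.cast_card_eq_zero F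
        rw [show Fintype.card F = 2 * 2 by omega, Nat.cast_mul, mul_self_eq_zero] at h0
        exact_mod_cast h0

theorem pow_list {dl : List ℕ} {k : ℕ} (hdl : ∀ d ∈ dl, d ∈ List.range' 1 k)
    (h : ∀ d ∈ List.range' 1 k, ∃ c : Fˣ, c ^ d ≠ 1) : ∀ d ∈ dl, ∃ c : Fˣ, c ^ d ≠ 1 :=
  fun d hd => h d (hdl d hd)

include hπ in
/-- The splitting over a big field. -/
theorem exists_lift (hD : D ∈ [chevG2, chevB2, chevD4, chevF4, chevE6, chevE7, chevE8])
    (hlink : g.Linked) (hperf : commutator X = ⊤) (hF : BigField F D) :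
    ∃ τ : D.SteinbergCover F →* E,
      ∀ r < D.nroots, ∀ t, π (τ (D.scGen F r t)) = S.y r t := by
  have p1 : ∀ d ∈ [1], ∃ c : Fˣ, c ^ d ≠ 1 := by
    intro d hd
    obtain ⟨c, hc⟩ := hF.one
    obtain rfl := List.mem_singleton.1 hd
    exact ⟨c, by rwa [pow_one]⟩
  have p2 : D ∈ [chevG2, chevB2, chevD4, chevF4] → ∀ d ∈ [1, 2], ∃ c : Fˣ, c ^ d ≠ 1 := by
    intro hm d hd
    rcases List.mem_cons.1 hd with rfl | hd
    · exact p1 _ (List.mem_singleton.2 rfl)
    · obtain rfl := List.mem_singleton.1 hd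
      exact hF.two hm
  simp only [List.mem_cons, List.not_mem_nil, or_false] at hD
  rcases hD with rfl | rfl | rfl | rfl | rfl | rfl | rfl
  · have p3 : ∀ d ∈ [1, 2, 3], ∃ c : Fˣ, c ^ d ≠ 1 := by
      intro d hd
      simp only [List.mem_cons, List.not_mem_nil, or_false] at hd
      rcases hd with rfl | rfl | rfl
      · exact p1 _ (by simp)
      · exact hF.two (by simp)
      · exact hF.three rfl
    refine exists_lift_of S hlink hperf hπ (moves_of_check S hlink movesG2 p3)
      (cpair_self_all S hπ hlink fun i hi => ?_)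
      (pairs_of_check S hπ hlink pairsG2 p3 fun _ _ _ _ _ _ h => Bool.noConfusion h)
    have hi' : i < 2 := hi
    interval_cases i
    · rcases hF.self (Or.inl rfl) with ⟨h, -⟩ | h
      · exact absurd (congrArg ChevalleyDatum.nroots h) (by decide)
      · exact cpair_self_of_unitB S hπ hlink hi unitG2 h
    · exact cpair_self_of_hwB S hπ hlink (g.simple_lt hi) hwG2 (Or.inl rfl) p3
  · refine exists_lift_of S hlink hperf hπ (moves_of_check S hlink movesB2 (p2 (by simp)))
      (cpair_self_all S hπ hlink fun i hi => ?_)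
      (pairs_of_check S hπ hlink pairsB2 (p2 (by simp)) fun _ _ _ _ _ _ h => Bool.noConfusion h)
    rcases hF.self (Or.inr rfl) with ⟨-, h⟩ | h
    · exact cpair_self_of_hwB S hπ hlink (g.simple_lt hi) (allR_upto hwB2two hi)
        (Or.inr (by exact_mod_cast h)) (p2 (by simp))
    have hi' : i < 2 := hi
    interval_cases i
    · exact cpair_self_of_unitB S hπ hlink hi unitB2 h
    · exact cpair_self_of_hwB S hπ hlink (g.simple_lt hi) hwB2 (Or.inl rfl) (p2 (by simp))
  · exact exists_lift_of S hlink hperf hπ (moves_of_check S hlink movesD4 p1)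
      (cpair_self_of_hws S hπ hlink hwD4 (Or.inl rfl) p1)
      (pairs_of_check S hπ hlink pairsD4 (p2 (by simp)) fun _ _ _ _ _ _ h => Bool.noConfusion h)
  · exact exists_lift_of S hlink hperf hπ (moves_of_check S hlink movesF4 p1)
      (cpair_self_of_hws S hπ hlink hwF4 (Or.inl rfl) p1)
      (pairs_of_check S hπ hlink pairsF4 (p2 (by simp)) fun _ _ _ _ _ _ h => Bool.noConfusion h)
  · exact exists_lift_of S hlink hperf hπ (moves_of_check S hlink movesE6 p1)
      (cpair_self_of_hws S hπ hlink hwE6 (Or.inl rfl) p1)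
      (pairs_of_check S hπ hlink pairsE6 p1 fun _ _ _ _ _ _ h => Bool.noConfusion h)
  · exact exists_lift_of S hlink hperf hπ (moves_of_check S hlink movesE7 p1)
      (cpair_self_of_hws S hπ hlink hwE7 (Or.inl rfl) p1)
      (pairs_of_check S hπ hlink pairsE7 p1 fun _ _ _ _ _ _ h => Bool.noConfusion h)
  · exact exists_lift_of S hlink hperf hπ (moves_of_check S hlink movesE8 p1)
      (cpair_self_of_hws S hπ hlink hwE8 (Or.inl rfl) p1)
      (pairs_of_check S hπ hlink pairsE8 p1 fun _ _ _ _ _ _ h => Bool.noConfusion h)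

end CfsgLib.KnownA.CExt
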